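import Mathlib.RingTheory.TensorProduct.IsBaseChangeFree
import Mathlib.Algebra.Category.Ring.Constructions

/-!
# Coordinates in a pushout of algebras over a field

For a pushout square `k → D`, `k → C`, `δ : D → P`, `c : C → P` of rings and a `k`-basis `t` of `C`, each element of `P` is
uniquely `∑ c (t j) * δ (x j)`.
-/

set_option autoImplicit false
universe u

open CategoryTheory

namespace K37.PushBasis

variable {k D C P : Type u} [Field k] [CommRing D] [CommRing C] [CommRing P] [Algebra k D] [Algebra k C]

/-- The linear combination. -/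
noncomputable def comb (δ : D →+* P) (c : C →+* P) {κ : Type*} (t : κ → C) (x : κ →₀ D) : P :=
  x.sum fun j d => c (t j) * δ d

theorem comb_add (δ : D →+* P) (c : C →+* P) {κ : Type*} (t : κ → C) (x y : κ →₀ D) :
    comb δ c t (x + y) = comb δ c t x + comb δ c t y := by
  unfold comb
  classical
  refine Finsupp.sum_add_index' (fun j => ?_) (fun j a b => ?_)
  · rw [map_zero, mul_zero]
  · rw [map_add, mul_add]

theorem comb_single (δ : D →+* P) (c : C →+* P) {κ : Type*} (t : κ → C) (j : κ) (d : D) :
    comb δ c t (Finsupp.single j d) = c (t j) * δ d := by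
  unfold comb
  rw [Finsupp.sum_single_index]
  rw [map_zero, mul_zero]

theorem map_comb {P' : Type u} [CommRing P'] (φ : P →+* P') (δ : D →+* P) (c : C →+* P) {κ : Type*} (t : κ → C)
    (x : κ →₀ D) : φ (comb δ c t x) = comb (φ.comp δ) (φ.comp c) t x := by
  unfold comb
  rw [map_finsuppSum]
  simp only [map_mul, RingHom.comp_apply]

theorem comb_eq_linearCombination (δ : D →+* P) (c : C →+* P) {κ : Type*} (t : κ → C) (x : κ →₀ D) :
    letI := δ.toAlgebra
    comb δ c t x = Finsupp.linearCombination D (fun j => c (t j)) x := by
  letI := δ.toAlgebra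
  rw [Finsupp.linearCombination_apply]
  unfold comb
  refine Finset.sum_congr rfl fun j _ => ?_
  change c (t j) * δ (x j) = x j • c (t j)
  rw [Algebra.smul_def, mul_comm]
  rfl

theorem bijective_comb (δ : D →+* P) (c : C →+* P)
    (H : IsPushout (CommRingCat.ofHom (algebraMap k D)) (CommRingCat.ofHom (algebraMap k C)) (CommRingCat.ofHom δ)
      (CommRingCat.ofHom c)) {κ : Type*} (t : Module.Basis κ k C) :
    Function.Bijective (comb δ c t) := by
  letI := δ.toAlgebra
  letI := c.toAlgebra
  letI : Algebra k P := (δ.comp (algebraMap k D)).toAlgebra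
  have t1 : IsScalarTower k D P := IsScalarTower.of_algebraMap_eq fun _ => rfl
  have t2 : IsScalarTower k C P := IsScalarTower.of_algebraMap_eq fun x => by
    have := congrArg (fun φ => φ.hom x) H.w
    exact this
  have h1 : Algebra.IsPushout k D C P := CommRingCat.isPushout_iff_isPushout.mp H
  have h2 := h1.out
  let b := h2.basis t
  have h3 : comb δ c t = fun x => b.repr.symm x := by
    funext x
    rw [comb_eq_linearCombination, Module.Basis.repr_symm_apply]
    have h4 : (fun j => c (t j)) = ⇑b := funext fun j => (h2.basis_apply t j).symm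
    rw [h4]
  rw [h3]
  exact b.repr.symm.bijective

end K37.PushBasis
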