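import Groth.Agent.Pi1C.GrCone
import Groth.Agent.EGA43.K123.RedClosure
import Groth.Agent.FGA.K37.PushBasis

/-!
# Coordinates of functions and of twisted sections on a product `X ×_k T`, `T` affine
-/

set_option autoImplicit false
universe u

open CategoryTheory CategoryTheory.Limits AlgebraicGeometry Opposite TopologicalSpace

namespace K37.Coord

open Groth.Agent.VarietyB.ProjGlue Groth.Agent.Pi1C.TwistSec K37.PushBasis

section cst

variable {X : Scheme.{u}} {B : Scheme.{u}}

/-- Constants: the pullback of global functions of the base to an open. -/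
noncomputable def cst (p : X ⟶ B) (U : X.Opens) : Γ(B, ⊤) →+* Γ(X, U) := (p.appLE ⊤ U le_top).hom

theorem res_cst (p : X ⟶ B) {U V : X.Opens} (h : V ≤ U) (c : Γ(B, ⊤)) :
    res h (cst p U c) = cst p V c := by
  have h1 := p.appLE_map (U := ⊤) (V := U) le_top (homOfLE h).op
  exact congrArg (fun φ => φ.hom c) h1

theorem appLE_cst {P B' : Scheme.{u}} (p : X ⟶ B) (g : P ⟶ X) (τ : B' ⟶ B) (p' : P ⟶ B') (w : g ≫ p = p' ≫ τ)
    {U : X.Opens} {V : P.Opens} (h : V ≤ g ⁻¹ᵁ U) (c : Γ(B, ⊤)) :
    g.appLE U V h (cst p U c) = cst p' V (τ.appTop c) := by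
  have h1 := Scheme.Hom.appLE_comp_appLE (f := g) (g := p) ⊤ U V le_top h
  have h2 := Scheme.Hom.appLE_comp_appLE (f := p') (g := τ) ⊤ ⊤ V le_rfl le_top
  have h3 : (g ≫ p).appLE ⊤ V le_top = (p' ≫ τ).appLE ⊤ V le_top := by simp only [w]
  have h4 := (h1.trans h3).trans h2.symm
  have h5 : τ.appLE ⊤ ⊤ le_rfl = τ.appTop := Scheme.Hom.appLE_eq_app (f := τ) (U := ⊤)
  rw [h5] at h4
  exact congrArg (fun φ => φ.hom c) h4

end cst

section base

variable {k : Type u} [Field k] {X P T : Scheme.{u}} [IsAffine T] {p : X ⟶ Spec (CommRingCat.of k)}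
  {s : T ⟶ Spec (CommRingCat.of k)} {b : P ⟶ X} {π : P ⟶ T} (H : IsPullback b π p s)

theorem ofHom_baseHom {X : Scheme.{u}} (p : X ⟶ Spec (CommRingCat.of k)) (U : X.Opens) :
    CommRingCat.ofHom (CoordData.baseHom p U) =
      (Scheme.ΓSpecIso (CommRingCat.of k)).inv ≫ p.appLE ⊤ U le_top := by
  rfl

include H

theorem isPushout {U : X.Opens} (hU : IsAffineOpen U) :
    IsPushout (CommRingCat.ofHom (CoordData.baseHom p U)) (CommRingCat.ofHom (CoordData.baseHom s ⊤))
      (CommRingCat.ofHom (b.app U).hom) (CommRingCat.ofHom (cst π (b ⁻¹ᵁ U))) := by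
  have h := K123.RedClosure.isPushout_sections H (U := U) (V := b ⁻¹ᵁ U) rfl hU
  refine h.of_iso (Scheme.ΓSpecIso (CommRingCat.of k)) (Iso.refl _) (Iso.refl _) (Iso.refl _) ?_ ?_ ?_ ?_
  · rw [ofHom_baseHom, Iso.hom_inv_id_assoc, Iso.refl_hom, Category.comp_id]
  · rw [ofHom_baseHom, Iso.hom_inv_id_assoc, Iso.refl_hom, Category.comp_id]
  · rw [Iso.refl_hom, Iso.refl_hom, Category.comp_id, Category.id_comp]
    exact Scheme.Hom.appLE_eq_app (f := b) (U := U)
  · rw [Iso.refl_hom, Iso.refl_hom, Category.comp_id, Category.id_comp]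
    rfl

/-- Constants coming from the field. -/
theorem app_baseHom {U : X.Opens} (hU : IsAffineOpen U) (c : k) :
    b.app U (CoordData.baseHom p U c) = cst π (b ⁻¹ᵁ U) (CoordData.baseHom s ⊤ c) :=
  congrArg (fun φ => φ.hom c) (isPushout H hU).w

omit H in
/-- The structure of a `k`-algebra on the global functions of a `k`-scheme. -/
noncomputable abbrev algTop {T : Scheme.{u}} (s : T ⟶ Spec (CommRingCat.of k)) : Algebra k Γ(T, ⊤) :=
  (CoordData.baseHom s ⊤).toAlgebra

omit H in
/-- The structure of a `k`-algebra on the functions on an open of a `k`-scheme. -/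
noncomputable abbrev algU (p : X ⟶ Spec (CommRingCat.of k)) (U : X.Opens) : Algebra k Γ(X, U) :=
  (CoordData.baseHom p U).toAlgebra

/-- Coordinates with respect to a basis of the functions on `T`. -/
theorem bijective_combT {U : X.Opens} (hU : IsAffineOpen U) {κ : Type*}
    (t : letI := algTop s; Module.Basis κ k Γ(T, ⊤)) :
    Function.Bijective (comb (b.app U).hom (cst π (b ⁻¹ᵁ U)) (fun j => t j)) := by
  letI := algTop s
  letI := algU p U
  exact bijective_comb (b.app U).hom (cst π (b ⁻¹ᵁ U)) (isPushout H hU) t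

/-- Coordinates with respect to a basis of the functions on `U`. -/
theorem bijective_combU {U : X.Opens} (hU : IsAffineOpen U) {κ : Type*}
    (t : letI := algU p U; Module.Basis κ k Γ(X, U)) :
    Function.Bijective (comb (cst π (b ⁻¹ᵁ U)) (b.app U).hom (fun j => t j)) := by
  letI := algTop s
  letI := algU p U
  exact bijective_comb (cst π (b ⁻¹ᵁ U)) (b.app U).hom (isPushout H hU).flip t

end base

section twisted

variable {k : Type u} [Field k] {X P T : Scheme.{u}} [IsAffine T] {p : X ⟶ Spec (CommRingCat.of k)}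
  {s : T ⟶ Spec (CommRingCat.of k)} {b : P ⟶ X} {π : P ⟶ T} (H : IsPullback b π p s)
  {I : Type} [Finite I] (D : CoordData X I) (hU : ∀ i, IsAffineOpen (D.U i))
  (hb : ∀ i j, X.basicOpen (D.f i j) = D.U i ⊓ D.U j) {m : ℤ} {r : ℕ} {σ₀ : Fin r → ∀ i, Γ(X, D.U i)}
  (h1 : ∀ e, σ₀ e ∈ Sec D m)
  (h2 : ∀ σ ∈ Sec D m, ∃ c : Fin r → k, ∀ i, σ i = ∑ e, CoordData.baseHom p (D.U i) (c e) * σ₀ e i)
  (h3 : ∀ c : Fin r → k, (∀ i, ∑ e, CoordData.baseHom p (D.U i) (c e) * σ₀ e i = 0) → c = 0)

/-- The combination of the basic twisted sections. -/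
noncomputable def tw (b : P ⟶ X) (π : P ⟶ T) (σ₀ : Fin r → ∀ i, Γ(X, D.U i)) (c : Fin r → Γ(T, ⊤)) :
    ∀ i, Γ(P, (pull D b).U i) :=
  fun i => ∑ e, cst π ((pull D b).U i) (c e) * appU D b i (σ₀ e i)

omit [IsAffine T] [Finite I] in
include h1 in
theorem tw_mem (c : Fin r → Γ(T, ⊤)) : tw D b π σ₀ c ∈ Sec (pull D b) m := by
  have h4 : ∀ (c : Γ(T, ⊤)) (x : ∀ i, Γ(P, (pull D b).U i)), x ∈ Sec (pull D b) m →
      (fun i => cst π ((pull D b).U i) c * x i) ∈ Sec (pull D b) m := by
    intro c x hx i j
    have hx' := mem_Sec _ |>.mp hx i j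
    rw [map_mul, map_mul, hx']
    have h2 : resL (pull D b) i j (cst π ((pull D b).U i) c) = cst π _ c := res_cst π inf_le_left c
    have h3 : resR (pull D b) i j (cst π ((pull D b).U j) c) = cst π _ c := res_cst π inf_le_right c
    rw [h2, h3]
    ring
  have h5 : tw D b π σ₀ c = ∑ e, fun i => cst π ((pull D b).U i) (c e) * appU D b i (σ₀ e i) := by
    funext i
    rw [Finset.sum_apply]
    rfl
  rw [h5]
  exact AddSubgroup.sum_mem _ fun e _ => h4 (c e) _ (appU_mem_Sec D b (h1 e))

omit [IsAffine T] in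
theorem comb_mapRange {D D' C P' : Type u} [CommRing D] [CommRing D'] [CommRing C] [CommRing P'] (δ' : D' →+* P')
    (c' : C →+* P') {κ : Type*} (t : κ → C) (f : D → D') (hf : f 0 = 0) (x : κ →₀ D) :
    comb δ' c' t (x.mapRange f hf) = x.sum fun j d => c' (t j) * δ' (f d) := by
  unfold comb
  exact Finsupp.sum_mapRange_index fun j => by rw [map_zero, mul_zero]

include H hU hb h2 in
theorem tw_surjective (σ : ∀ i, Γ(P, (pull D b).U i)) (hσ : σ ∈ Sec (pull D b) m) :
    ∃ c : Fin r → Γ(T, ⊤), tw D b π σ₀ c = σ := by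
  classical
  have := Fintype.ofFinite I
  letI := algTop s
  let t := Module.Basis.ofVectorSpace k Γ(T, ⊤)
  have hbi : ∀ i, Function.Bijective (comb (appU D b i) (cst π ((pull D b).U i)) (fun j => t j)) :=
    fun i => bijective_combT H (hU i) t
  choose x hx using fun i => (hbi i).2 (σ i)
  have key : ∀ γ, (fun i => x i γ) ∈ Sec D m := by
    intro γ i j
    have hW : IsAffineOpen (D.U i ⊓ D.U j) := by
      rw [← hb]
      exact (hU i).basicOpen _
    let xL : _ →₀ Γ(X, D.U i ⊓ D.U j) := (x i).mapRange (resL D i j) (map_zero _)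
    let xR : _ →₀ Γ(X, D.U i ⊓ D.U j) := (x j).mapRange
      (fun a => ((u D i j ^ m : Γ(X, D.U i ⊓ D.U j)ˣ) : Γ(X, D.U i ⊓ D.U j)) * resR D i j a)
      (by rw [map_zero, mul_zero])
    have hLR : xL = xR := by
      have hbW : Function.Bijective (comb (appUU D b i j) (cst π ((pull D b).U i ⊓ (pull D b).U j))
          (fun j => t j)) := bijective_combT H hW t
      apply hbW.1
      have hL : comb (appUU D b i j) (cst π ((pull D b).U i ⊓ (pull D b).U j)) (fun j => t j) xL =
          resL (pull D b) i j (σ i) := by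
        rw [← hx i, comb_mapRange]
        unfold comb
        rw [map_finsuppSum]
        refine Finset.sum_congr rfl fun γ _ => ?_
        dsimp only
        rw [map_mul]
        congr 1
        · exact (res_cst π inf_le_left _).symm
        · exact appUU_resL D b i j _
      have hR : comb (appUU D b i j) (cst π ((pull D b).U i ⊓ (pull D b).U j)) (fun j => t j) xR =
          ((u (pull D b) i j ^ m : Γ(P, (pull D b).U i ⊓ (pull D b).U j)ˣ) :
            Γ(P, (pull D b).U i ⊓ (pull D b).U j)) * resR (pull D b) i j (σ j) := by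
        rw [← hx j, comb_mapRange]
        unfold comb
        rw [map_finsuppSum, Finsupp.mul_sum]
        refine Finset.sum_congr rfl fun γ _ => ?_
        dsimp only
        have e3 : cst π ((pull D b).U i ⊓ (pull D b).U j) (t γ) =
          resR (pull D b) i j (cst π ((pull D b).U j) (t γ)) := (res_cst π inf_le_right _).symm
        rw [map_mul, map_mul, appUU_u_zpow, appUU_resR, e3]
        ring
      rw [hL, hR]
      exact (mem_Sec _).mp hσ i j
    exact congrArg (fun f => f γ) hLR
  choose cγ hcγ using fun γ => h2 _ (key γ)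
  let S : Finset _ := Finset.univ.biUnion fun i => (x i).support
  refine ⟨fun e => ∑ γ ∈ S, CoordData.baseHom s ⊤ (cγ γ e) * t γ, ?_⟩
  funext i
  rw [← hx i]
  unfold comb tw
  rw [Finsupp.sum_of_support_subset (x i) (s := S) (Finset.subset_biUnion_of_mem (fun i => (x i).support)
    (Finset.mem_univ i)) _ (fun j _ => by rw [map_zero, mul_zero])]
  simp only [map_sum, Finset.sum_mul]
  rw [Finset.sum_comm]
  refine Finset.sum_congr rfl fun γ _ => ?_
  rw [hcγ γ i, map_sum, Finset.mul_sum]
  refine Finset.sum_congr rfl fun e _ => ?_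
  rw [map_mul, map_mul]
  have e1 : appU D b i (CoordData.baseHom p (D.U i) (cγ γ e)) =
    cst π ((pull D b).U i) (CoordData.baseHom s ⊤ (cγ γ e)) := app_baseHom H (hU i) _
  rw [e1]
  ring

include H hU h3 in
theorem tw_injective {c c' : Fin r → Γ(T, ⊤)} (h : tw D b π σ₀ c = tw D b π σ₀ c') : c = c' := by
  classical
  have := Fintype.ofFinite I
  letI := algTop s
  let t := Module.Basis.ofVectorSpace k Γ(T, ⊤)
  let a := fun e => t.repr (c e - c' e)
  have ha : ∀ e, (a e).sum (fun γ q => CoordData.baseHom s ⊤ q * t γ) = c e - c' e := by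
    intro e
    have h4 := t.linearCombination_repr (c e - c' e)
    rw [Finsupp.linearCombination_apply] at h4
    exact h4
  let y : ∀ i, _ →₀ Γ(X, D.U i) := fun i =>
    ∑ e, (a e).mapRange (fun q => CoordData.baseHom p (D.U i) q * σ₀ e i) (by rw [map_zero, zero_mul])
  have hy : ∀ i, y i = 0 := by
    intro i
    have hbi : Function.Bijective (comb (appU D b i) (cst π ((pull D b).U i)) (fun j => t j)) :=
      bijective_combT H (hU i) t
    apply hbi.1
    have h5 : ∀ (s : Finset (Fin r)) (f : Fin r → (_ →₀ Γ(X, D.U i))),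
        comb (appU D b i) (cst π ((pull D b).U i)) (fun j => t j) (∑ e ∈ s, f e) =
        ∑ e ∈ s, comb (appU D b i) (cst π ((pull D b).U i)) (fun j => t j) (f e) := by
      intro s f
      induction s using Finset.induction_on with
      | empty => simp [comb]
      | insert e s he ih => rw [Finset.sum_insert he, Finset.sum_insert he, comb_add, ih]
    have h6 : comb (appU D b i) (cst π ((pull D b).U i)) (fun j => t j) 0 = 0 := by simp [comb]
    rw [h6, h5]
    have h7 : ∀ e, comb (appU D b i) (cst π ((pull D b).U i)) (fun j => t j)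
        ((a e).mapRange (fun q => CoordData.baseHom p (D.U i) q * σ₀ e i) (by rw [map_zero, zero_mul])) =
        cst π ((pull D b).U i) (c e - c' e) * appU D b i (σ₀ e i) := by
      intro e
      rw [comb_mapRange, ← ha e, map_finsuppSum, Finsupp.sum_mul]
      refine Finset.sum_congr rfl fun γ _ => ?_
      dsimp only
      rw [map_mul, map_mul]
      have e1 : appU D b i (CoordData.baseHom p (D.U i) ((a e) γ)) =
        cst π ((pull D b).U i) (CoordData.baseHom s ⊤ ((a e) γ)) := app_baseHom H (hU i) _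
      rw [e1]
      ring
    simp only [h7, map_sub, sub_mul, Finset.sum_sub_distrib]
    have h8 := congrFun h i
    exact sub_eq_zero.mpr h8
  have ha0 : ∀ e, a e = 0 := by
    intro e
    ext γ
    have h9 := h3 (fun e => a e γ) fun i => by
      have h10 := congrArg (fun f : _ →₀ Γ(X, D.U i) => f γ) (hy i)
      simp only [y, Finsupp.finset_sum_apply, Finsupp.mapRange_apply, Finsupp.coe_zero, Pi.zero_apply] at h10
      exact h10
    exact congrFun h9 e
  funext e
  have h11 : t.repr (c e - c' e) = 0 := ha0 e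
  rw [LinearEquiv.map_eq_zero_iff, sub_eq_zero] at h11
  exact h11

end twisted

end K37.Coord
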