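import Groth.Agent.Pi1C.GrCone
import Groth.Agent.CalgB.AmpleProj
import Groth.Agent.CurvesB.HZero
import Groth.Agent.CohqB.LocalQC
import Groth.Agent.CurvesC.UnitCoh
import Groth.Agent.S0002

/-!
# Twisted sections on a proper scheme over a field

`exists_basis`: for coordinate data `D` on a proper `k`-scheme `X` the twisted sections `Sec D m` have a finite basis.
-/

set_option autoImplicit false
universe u

open CategoryTheory CategoryTheory.Limits AlgebraicGeometry Opposite TopologicalSpace

namespace K37.SecFin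

open Groth.Agent.VarietyB.ProjGlue Groth.Agent.Pi1C.TwistSec Groth.Agent.Fdesc.LocGen
  Groth.Agent.Flat2H.FamExt Groth.Agent.Flat2H.FamDict Groth.Agent.Flat2H.FamRestrict

variable {X : Scheme.{u}}

section fin

variable {I : Type} (D : CoordData X I) (m : ℤ)

/-- An invertible module with transition functions `f i j ^ m`. -/
theorem exists_module : ∃ (E : X.Modules) (_ : PicF.IsInvertible E) (e : ∀ i, Γ(E, D.U i)),
    (∀ i, IsGen (e i)) ∧ ∀ i j, res E inf_le_right (e j) =
      ((u D i j ^ m : Γ(X, D.U i ⊓ D.U j)ˣ) : Γ(X, D.U i ⊓ D.U j)) • res E inf_le_left (e i) := by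
  have hcov : ∀ x : X, ∃ i, x ∈ D.U i := by
    intro x
    have h : x ∈ ⨆ i, D.U i := D.iSup_U ▸ (trivial : x ∈ (⊤ : X.Opens))
    exact Opens.mem_iSup.1 h
  have hu : ∀ i j k (V : X.Opens) (hi : V ≤ D.U i) (hj : V ≤ D.U j) (hk : V ≤ D.U k),
      Units.map (ores (le_inf hi hj)).toMonoidHom (u D i j) *
        Units.map (ores (le_inf hj hk)).toMonoidHom (u D j k) =
        Units.map (ores (le_inf hi hk)).toMonoidHom (u D i k) := by
    intro i j k V hi hj hk
    ext
    change ores (le_inf hi hj) (u D i j : Γ(X, D.U i ⊓ D.U j)) *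
      ores (le_inf hj hk) (u D j k : Γ(X, D.U j ⊓ D.U k)) =
      ores (le_inf hi hk) (u D i k : Γ(X, D.U i ⊓ D.U k))
    rw [u_val, u_val, u_val]
    change ores _ (ores _ _) * ores _ (ores _ _) = ores _ (ores _ _)
    rw [ores_ores, ores_ores, ores_ores]
    exact (Groth.Agent.CalgB.AmpleProj.coordData_f_mul D i j k hi hj).symm
  obtain ⟨E, hE⟩ := exists_trivs_of_cocycle D.U hcov
    (fun i j => ((u D i j ^ (-m) : Γ(X, D.U i ⊓ D.U j)ˣ) : Γ(X, D.U i ⊓ D.U j)))
    (by
      intro i
      have h1 : u D i i = 1 := by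
        ext
        rw [u_val, D.f_self, map_one]
        rfl
      rw [h1, one_zpow, Units.val_one])
    (by
      intro i j k V hi hj hk
      have h := congrArg (fun x : Γ(X, V)ˣ => ((x ^ (-m) : Γ(X, V)ˣ) : Γ(X, V))) (hu i j k V hi hj hk)
      simp only [mul_zpow, Units.val_mul, ← map_zpow] at h
      exact h)
  have hE' := hE.isInvertible
  obtain ⟨-, e, he, hr⟩ := hE
  refine ⟨E, hE', e, he, fun i j => ?_⟩
  rw [hr i j, smul_smul, ← Units.val_mul, ← zpow_add, add_neg_cancel, zpow_zero, Units.val_one, one_smul]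

section basis

variable (k : Type u) [Field k] (p : X ⟶ Spec (CommRingCat.of k)) [IsProper p]

theorem isCoh_of_isInvertible {L : X.Modules} (hL : PicF.IsInvertible L) : Coh.IsCoh L := by
  choose U hU e using hL
  refine Groth.Agent.CohqB.LocalQC.isCoh_of_cover U ?_ L fun x => ?_
  · rw [eq_top_iff]
    intro x _
    exact Opens.mem_iSup.mpr ⟨x, hU x⟩
  · obtain ⟨e⟩ := e x
    exact Groth.Agent.CohqB.LocalQC.isCoh_of_iso e.symm (Groth.Agent.CurvesC.UnitCoh.isCoh_unit _)

include k p in
theorem exists_basis [Finite I] : ∃ (r : ℕ) (s : Fin r → ∀ i, Γ(X, D.U i)), (∀ e, s e ∈ Sec D m) ∧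
    (∀ σ ∈ Sec D m, ∃ c : Fin r → k, ∀ i, σ i = ∑ e, CoordData.baseHom p (D.U i) (c e) * s e i) ∧
    (∀ c : Fin r → k, (∀ i, ∑ e, CoordData.baseHom p (D.U i) (c e) * s e i = 0) → c = 0) := by
  obtain ⟨E, hE, e, he, hr⟩ := exists_module D m
  letI : X.Over (Spec (CommRingCat.of k)) := ⟨p⟩
  have hp : X ↘ Spec (CommRingCat.of k) = p := rfl
  have : IsProper (X ↘ Spec (CommRingCat.of k)) := inferInstanceAs (IsProper p)
  letI alg : ∀ i, Algebra k Γ(X, D.U i) := fun i => (CoordData.baseHom p (D.U i)).toAlgebra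
  have hsm : ∀ (i : I) (c : k) (a : Γ(X, D.U i)), c • a = CoordData.baseHom p (D.U i) c * a :=
    fun i c a => Algebra.smul_def c a
  letI mE : Module k Γ(E, ⊤) := Groth.Agent.CurvesB.HZero.moduleΓ k E
  have hmE : ∀ (c : k) (x : Γ(E, ⊤)), c • x = Groth.Agent.CurvesB.HZero.gl k X c • x := fun _ _ => rfl
  have hgl : ∀ (c : k) (i : I), ores (le_top : D.U i ≤ ⊤) (Groth.Agent.CurvesB.HZero.gl k X c) =
      CoordData.baseHom p (D.U i) c := fun _ _ => rfl
  have hfin : Module.Finite k (Coh.HH X E 0) := Groth.Agent.S0002.result k X E (isCoh_of_isInvertible hE) 0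
  have hfinE : Module.Finite k Γ(E, ⊤) :=
    Module.Finite.equiv (Groth.Agent.CurvesB.HZero.equivLin k E)
  choose Ψ hΨ using fun (x : Γ(E, ⊤)) (i : I) => (he i).exists_eq (res E le_top x)
  let Ψl : Γ(E, ⊤) →ₗ[k] (∀ i, Γ(X, D.U i)) :=
    { toFun := fun x i => Ψ x i
      map_add' := fun x y => by
        funext i
        refine (he i).ext ?_
        rw [← hΨ, Pi.add_apply, add_smul, ← hΨ, ← hΨ, map_add]
      map_smul' := fun c x => by
        funext i
        refine (he i).ext ?_
        rw [← hΨ, RingHom.id_apply, Pi.smul_apply, hsm, mul_smul, ← hΨ, hmE, res_smul, hgl] }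
  let N : Submodule k (∀ i, Γ(X, D.U i)) :=
    { carrier := Sec D m
      add_mem' := fun h h' => (Sec D m).add_mem h h'
      zero_mem' := (Sec D m).zero_mem
      smul_mem' := fun c x hx => by
        intro i j
        have hx' := mem_Sec D |>.mp hx i j
        have h1 : ∀ l, (c • x) l = CoordData.baseHom p (D.U l) c * x l := fun l => hsm l c (x l)
        rw [h1, h1, map_mul, map_mul, hx']
        have h2 : resL D i j (CoordData.baseHom p (D.U i) c) = CoordData.baseHom p (D.U i ⊓ D.U j) c :=
          congrArg (fun φ : k →+* Γ(X, D.U i ⊓ D.U j) => φ c) (CoordData.baseHom_map p inf_le_left)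
        have h3 : resR D i j (CoordData.baseHom p (D.U j) c) = CoordData.baseHom p (D.U i ⊓ D.U j) c :=
          congrArg (fun φ : k →+* Γ(X, D.U i ⊓ D.U j) => φ c) (CoordData.baseHom_map p inf_le_right)
        rw [h2, h3]
        ring }
  have hle : N ≤ LinearMap.range Ψl := by
    intro x hx
    have hx' := mem_Sec D |>.mp hx
    obtain ⟨z, hz⟩ := res_glue E (V := ⊤) D.U (fun _ => le_top) D.iSup_U.ge (fun i => x i • e i) (fun i j => by
      rw [res_smul, res_smul, hr i j, smul_smul]
      congr 1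
      refine (hx' i j).trans ?_
      exact mul_comm _ _)
    refine ⟨z, ?_⟩
    funext i
    refine (he i).ext ?_
    change Ψ z i • e i = _
    rw [← hΨ]
    exact hz i
  have : Module.Finite k (LinearMap.range Ψl) := Module.Finite.range Ψl
  have : Module.Finite k N := Submodule.finiteDimensional_of_le hle
  let b := Module.finBasis k N
  refine ⟨Module.finrank k N, fun e => (b e : ∀ i, Γ(X, D.U i)), fun e => (b e).2, ?_, ?_⟩
  · intro σ hσ
    refine ⟨fun e => b.repr ⟨σ, hσ⟩ e, fun i => ?_⟩
    have h1 := b.sum_repr ⟨σ, hσ⟩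
    have h2 := congrFun (congrArg Subtype.val h1) i
    simp only at h2
    rw [← h2]
    simp only [Submodule.coe_sum, Submodule.coe_smul, Finset.sum_apply, Pi.smul_apply, hsm]
  · intro c hc
    have h1 : ∑ e, c e • b e = 0 := by
      apply Subtype.ext
      funext i
      simp only [Submodule.coe_sum, Submodule.coe_smul, Finset.sum_apply, Pi.smul_apply, hsm]
      exact hc i
    have h2 := Fintype.linearIndependent_iff.mp b.linearIndependent c h1
    funext e
    exact h2 e

end basis

end fin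

end K37.SecFin
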