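import Groth.Agent.FGA.K37.HomY
import Groth.Agent.FGA.K37.Coord
import Groth.Agent.FGA.K37.SecFin
import Mathlib.AlgebraicGeometry.AffineSpace

/-!
# Weil restriction along `X ×_k S ⟶ S`, `X` proper over `k` with coordinate data, `S` affine, of an affine scheme of finite
presentation over `X ×_k S`, tested on affine `S`-schemes
-/

set_option autoImplicit false
universe u

open CategoryTheory CategoryTheory.Limits AlgebraicGeometry Opposite TopologicalSpace

namespace K37.AffWeil

open Groth.Agent.VarietyB.ProjGlue Groth.Agent.Pi1C.TwistSec Groth.Agent.Pi1C.GrCone K37.MorAff K37.HomY K37.Coord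
  K37.PushBasis

section nat

variable {X P P' T T' : Scheme.{u}} {I : Type} (D : CoordData X I) {b : P ⟶ X} {π : P ⟶ T} {b' : P' ⟶ X} {π' : P' ⟶ T'}
  (h : P' ⟶ P) (w : h ≫ b = b') (τ : T' ⟶ T) (w' : h ≫ π = π' ≫ τ)

include w' in
theorem trU_cst (i : I) (c : Γ(T, ⊤)) :
    trU D b b' h w i (cst π ((pull D b).U i) c) = cst π' ((pull D b').U i) (τ.appTop c) :=
  appLE_cst π h τ π' w' _ c

include w' in
theorem trU_tw {r : ℕ} (σ₀ : Fin r → ∀ i, Γ(X, D.U i)) (c : Fin r → Γ(T, ⊤)) (i : I) :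
    trU D b b' h w i (tw D b π σ₀ c i) = tw D b' π' σ₀ (fun e => τ.appTop (c e)) i := by
  unfold tw
  rw [map_sum]
  refine Finset.sum_congr rfl fun e _ => ?_
  rw [map_mul, trU_cst D h w τ w', trU_appU]

end nat

section closed

variable {V : Scheme.{u}} [IsAffine V] (J : Ideal Γ(V, ⊤))

/-- The closed subscheme of an affine scheme defined by an ideal. -/
noncomputable def kap : Spec (CommRingCat.of (Γ(V, ⊤) ⧸ J)) ⟶ V :=
  Spec.map (CommRingCat.ofHom (Ideal.Quotient.mk J)) ≫ V.isoSpec.inv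

instance : IsClosedImmersion (kap J) := by
  have : IsClosedImmersion (Spec.map (CommRingCat.ofHom (Ideal.Quotient.mk J))) :=
    IsClosedImmersion.spec_of_surjective _ Ideal.Quotient.mk_surjective
  unfold kap
  infer_instance

theorem lfp_kap (hJ : J.FG) : LocallyOfFinitePresentation (kap J) := by
  have : LocallyOfFinitePresentation (Spec.map (CommRingCat.ofHom (Ideal.Quotient.mk J))) := by
    rw [LocallyOfFinitePresentation.SpecMap_iff]
    exact RingHom.FinitePresentation.of_surjective _ Ideal.Quotient.mk_surjective (by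
      rwa [CommRingCat.hom_ofHom, Ideal.mk_ker])
  unfold kap
  infer_instance

theorem le_ker_kap : J ≤ RingHom.ker (kap J).appTop.hom := by
  intro x hx
  have h1 : V.isoSpec.inv.appTop ≫ (Scheme.ΓSpecIso Γ(V, ⊤)).hom = 𝟙 _ := by
    rw [← Scheme.toSpecΓ_appTop, ← Scheme.Hom.comp_appTop, Scheme.toSpecΓ_isoSpec_inv, Scheme.Hom.id_appTop]
  have h2 : (kap J).appTop ≫ (Scheme.ΓSpecIso _).hom = CommRingCat.ofHom (Ideal.Quotient.mk J) := by
    rw [kap, Scheme.Hom.comp_appTop, Category.assoc, Scheme.ΓSpecIso_naturality, ← Category.assoc]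
    exact (congrArg (fun φ => φ ≫ _) h1).trans (Category.id_comp _)
  have h3 := congrArg (fun φ => φ.hom x) h2
  have h4 : (Scheme.ΓSpecIso (CommRingCat.of (Γ(V, ⊤) ⧸ J))).hom.hom ((kap J).appTop.hom x) = 0 :=
    h3.trans (Ideal.Quotient.eq_zero_iff_mem.mpr hx)
  rw [RingHom.mem_ker]
  have h5 := (ConcreteCategory.bijective_of_isIso (Scheme.ΓSpecIso (CommRingCat.of (Γ(V, ⊤) ⧸ J))).hom).1
  apply h5
  rw [map_zero]
  exact h4

theorem exists_kap {T : Scheme.{u}} (τ : T ⟶ V) (h : J ≤ RingHom.ker τ.appTop.hom) : ∃ τ' : T ⟶ _, τ' ≫ kap J = τ := by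
  refine ⟨T.toSpecΓ ≫ Spec.map (CommRingCat.ofHom (Ideal.Quotient.lift J τ.appTop.hom fun x hx => h hx)), ?_⟩
  have h1 : CommRingCat.ofHom (Ideal.Quotient.mk J) ≫
    CommRingCat.ofHom (Ideal.Quotient.lift J τ.appTop.hom fun x hx => h hx) = τ.appTop := by
    ext x
    rfl
  rw [kap, Category.assoc, ← Category.assoc (Spec.map _) (Spec.map _), ← Spec.map_comp, h1,
    ← Scheme.toSpecΓ_naturality_assoc, Scheme.toSpecΓ_isoSpec_inv, Category.comp_id]

end closed

section bc

variable {Z S : Scheme.{u}} (f : Z ⟶ S)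

/-- The base change of a morphism of `S`-schemes. -/
noncomputable def bc {T T' : Scheme.{u}} {t : T ⟶ S} {t' : T' ⟶ S} (τ : T' ⟶ T) (h : τ ≫ t = t') :
    pullback f t' ⟶ pullback f t :=
  pullback.lift (pullback.fst f t') (pullback.snd f t' ≫ τ) (by rw [Category.assoc, h, pullback.condition])

@[reassoc (attr := simp)]
theorem bc_fst {T T' : Scheme.{u}} {t : T ⟶ S} {t' : T' ⟶ S} (τ : T' ⟶ T) (h : τ ≫ t = t') :
    bc f τ h ≫ pullback.fst f t = pullback.fst f t' := pullback.lift_fst _ _ _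

@[reassoc (attr := simp)]
theorem bc_snd {T T' : Scheme.{u}} {t : T ⟶ S} {t' : T' ⟶ S} (τ : T' ⟶ T) (h : τ ≫ t = t') :
    bc f τ h ≫ pullback.snd f t = pullback.snd f t' ≫ τ := pullback.lift_snd _ _ _

theorem bc_id {T : Scheme.{u}} {t : T ⟶ S} : bc f (𝟙 T) (Category.id_comp t) = 𝟙 _ := by
  apply pullback.hom_ext <;> simp

theorem bc_comp {T T' T'' : Scheme.{u}} {t : T ⟶ S} {t' : T' ⟶ S} {t'' : T'' ⟶ S} (τ : T' ⟶ T) (h : τ ≫ t = t')
    (τ' : T'' ⟶ T') (h' : τ' ≫ t' = t'') :
    bc f τ' h' ≫ bc f τ h = bc f (τ' ≫ τ) (by rw [Category.assoc, h, h']) := by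
  apply pullback.hom_ext <;> simp

end bc

section main

variable {k : Type u} [Field k] {X : Scheme.{u}} {p : X ⟶ Spec (CommRingCat.of k)}
  {I : Type} [Finite I] (D : CoordData X I) (hU : ∀ i, IsAffineOpen (D.U i))
  (hb : ∀ i j, X.basicOpen (D.f i j) = D.U i ⊓ D.U j)
  {Z S Y : Scheme.{u}} {a : Z ⟶ X} {f : Z ⟶ S} {σ : S ⟶ Spec (CommRingCat.of k)} (H : IsPullback a f p σ)
  (y : Y ⟶ Z) {N : ℕ} {m : Fin N → ℤ} {α : Fin N → ∀ i, Γ(Y, (pull D (y ≫ a)).U i)} (G : GenFam D a y N m α)
  {r : Fin N → ℕ} (s : ∀ l, Fin (r l) → ∀ i, Γ(X, D.U i)) (hs1 : ∀ l e, s l e ∈ Sec D (m l))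
  (hs2 : ∀ l, ∀ σ ∈ Sec D (m l), ∃ c : Fin (r l) → k,
    ∀ i, σ i = ∑ e, CoordData.baseHom p (D.U i) (c e) * s l e i)
  (hs3 : ∀ l, ∀ c : Fin (r l) → k, (∀ i, ∑ e, CoordData.baseHom p (D.U i) (c e) * s l e i = 0) → c = 0)

include H in
theorem isPullback_bc {T : Scheme.{u}} (t : T ⟶ S) :
    IsPullback (pullback.fst f t ≫ a) (pullback.snd f t) p (t ≫ σ) :=
  (IsPullback.of_hasPullback f t).paste_horiz H

/-- The family of twisted sections with given coordinates. -/
noncomputable def cfam {T : Scheme.{u}} (t : T ⟶ S) (x : ∀ l, Fin (r l) → Γ(T, ⊤)) :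
    Fin N → ∀ i, Γ(pullback f t, (pull D (pullback.fst f t ≫ a)).U i) :=
  fun l => tw D (pullback.fst f t ≫ a) (pullback.snd f t) (s l) (x l)

variable (a f) in
/-- The relations of the generators, for given coordinates. -/
def Cond {T : Scheme.{u}} (t : T ⟶ S) (x : ∀ l, Fin (r l) → Γ(T, ⊤)) : Prop :=
  ∀ i z, ev D a (y ≫ a) y rfl α i z = 0 →
    ev D a (pullback.fst f t ≫ a) (pullback.fst f t) rfl (cfam (a := a) (f := f) D s t x) i z = 0

omit [Finite I] in
theorem comb_zero {A B C : Type u} [CommRing A] [CommRing B] [CommRing C] (δ : A →+* C) (c : B →+* C) {κ : Type*}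
    (t : κ → B) : comb δ c t 0 = 0 := by
  simp [comb]

include G H hU in
theorem exists_ideal {V : Scheme.{u}} [IsAffine V] (v : V ⟶ S) (xV : ∀ l, Fin (r l) → Γ(V, ⊤)) :
    ∃ J : Ideal Γ(V, ⊤), J.FG ∧ ∀ {T : Scheme.{u}} [IsAffine T] (τ : T ⟶ V) (t : T ⟶ S) (_ : τ ≫ v = t),
      Cond (α := α) D a f y s t (fun l e => τ.appTop (xV l e)) ↔ J ≤ RingHom.ker τ.appTop.hom := by
  classical
  have := Fintype.ofFinite I
  letI := fun i => algU p (D.U i)
  let β := fun i => Module.Basis.ofVectorSpace k Γ(X, D.U i)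
  choose Gi hGi using G.fg
  have hbi : ∀ {T : Scheme.{u}} [IsAffine T] (t : T ⟶ S) (i : I),
      Function.Bijective (comb (cst (pullback.snd f t) ((pull D (pullback.fst f t ≫ a)).U i))
        (appU D (pullback.fst f t ≫ a) i) (fun j => β i j)) :=
    fun t i => bijective_combU (isPullback_bc H t) (hU i) (β i)
  choose w hw using fun (i : I) (z : MvPolynomial (Fin N) Γ(Z, (pull D a).U i)) =>
    (hbi v i).2 (ev D a (pullback.fst f v ≫ a) (pullback.fst f v) rfl (cfam (a := a) (f := f) D s v xV) i z)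
  refine ⟨Ideal.span (↑(Finset.univ.biUnion fun i => (Gi i).biUnion fun z => (w i z).support.image (w i z)) :
    Set Γ(V, ⊤)), ⟨_, rfl⟩, ?_⟩
  intro T _ τ t h
  have key : ∀ i z, ev D a (pullback.fst f t ≫ a) (pullback.fst f t) rfl
      (cfam (a := a) (f := f) D s t (fun l e => τ.appTop (xV l e))) i z = 0 ↔ ∀ j, τ.appTop (w i z j) = 0 := by
    intro i z
    have e1 : trU D (pullback.fst f v ≫ a) (pullback.fst f t ≫ a) (bc f τ h) (bc_fst_assoc f τ h a) i
        (ev D a (pullback.fst f v ≫ a) (pullback.fst f v) rfl (cfam (a := a) (f := f) D s v xV) i z) =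
        ev D a (pullback.fst f t ≫ a) (pullback.fst f t) rfl
          (cfam (a := a) (f := f) D s t (fun l e => τ.appTop (xV l e))) i z := by
      rw [trU_ev]
      have e2 : (fun l i => trU D (pullback.fst f v ≫ a) (pullback.fst f t ≫ a) (bc f τ h) (bc_fst_assoc f τ h a) i
          (cfam (a := a) (f := f) D s v xV l i)) =
          cfam (a := a) (f := f) D s t (fun l e => τ.appTop (xV l e)) := by
        funext l i
        exact trU_tw D (bc f τ h) (bc_fst_assoc f τ h a) τ (bc_snd f τ h) (s l) (xV l) i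
      rw [e2]
      have e3 : ∀ (q : pullback f t ⟶ Z) (hq : q = pullback.fst f t) (hq' : q ≫ a = pullback.fst f t ≫ a),
          ev D a (pullback.fst f t ≫ a) q hq' (cfam (a := a) (f := f) D s t (fun l e => τ.appTop (xV l e))) i z =
          ev D a (pullback.fst f t ≫ a) (pullback.fst f t) rfl
            (cfam (a := a) (f := f) D s t (fun l e => τ.appTop (xV l e))) i z := by
        rintro q rfl hq'
        rfl
      exact e3 _ (bc_fst f τ h) _
    rw [← e1, ← hw, map_comb]
    have e4 : comb ((trU D (pullback.fst f v ≫ a) (pullback.fst f t ≫ a) (bc f τ h) (bc_fst_assoc f τ h a) i).comp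
          (cst (pullback.snd f v) ((pull D (pullback.fst f v ≫ a)).U i)))
        ((trU D (pullback.fst f v ≫ a) (pullback.fst f t ≫ a) (bc f τ h) (bc_fst_assoc f τ h a) i).comp
          (appU D (pullback.fst f v ≫ a) i)) (fun j => β i j) (w i z) =
        comb (cst (pullback.snd f t) ((pull D (pullback.fst f t ≫ a)).U i))
          (appU D (pullback.fst f t ≫ a) i) (fun j => β i j)
          ((w i z).mapRange τ.appTop.hom (map_zero _)) := by
      rw [comb_mapRange]
      unfold comb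
      refine Finset.sum_congr rfl fun j _ => ?_
      dsimp only
      rw [RingHom.comp_apply, RingHom.comp_apply, trU_appU,
        trU_cst D (bc f τ h) (bc_fst_assoc f τ h a) τ (bc_snd f τ h)]
    rw [e4]
    constructor
    · intro h0 j
      have h1 : (w i z).mapRange τ.appTop.hom (map_zero _) = 0 :=
        (hbi t i).1 (h0.trans (comb_zero _ _ _).symm)
      exact congrArg (fun x => x j) h1
    · intro h0
      have h1 : (w i z).mapRange τ.appTop.hom (map_zero _) = 0 := by
        ext j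
        exact h0 j
      rw [h1]
      exact comb_zero _ _ _
  constructor
  · intro hc
    rw [Ideal.span_le]
    intro x hx
    simp only [Finset.coe_biUnion, Set.mem_iUnion, Finset.coe_image, Set.mem_image] at hx
    obtain ⟨i, -, z, hz, j, -, rfl⟩ := hx
    have h1 : ev D a (y ≫ a) y rfl α i z = 0 := by
      have h2 : z ∈ RingHom.ker (ev D a (y ≫ a) y rfl α i) := by
        rw [← hGi i]
        exact Ideal.subset_span hz
      exact h2
    exact (key i z).mp (hc i z h1) j
  · intro hJ i z hz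
    have h1 : Ideal.span (Gi i : Set _) ≤ RingHom.ker (ev D a (pullback.fst f t ≫ a) (pullback.fst f t) rfl
      (cfam (a := a) (f := f) D s t (fun l e => τ.appTop (xV l e))) i) := by
      rw [Ideal.span_le]
      intro g hg
      refine (key i g).mpr fun j => ?_
      by_cases hj : j ∈ (w i g).support
      · apply hJ
        apply Ideal.subset_span
        simp only [Finset.coe_biUnion, Set.mem_iUnion, Finset.coe_image, Set.mem_image]
        exact ⟨i, Finset.mem_coe.mpr (Finset.mem_univ i), g, hg, j, hj, rfl⟩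
      · rw [Finsupp.notMem_support_iff] at hj
        rw [hj, map_zero]
    apply h1
    rw [hGi i]
    exact hz

omit [Finite I] in
theorem ev_congr {P : Scheme.{u}} (b : P ⟶ X) {q q' : P ⟶ Z} (h : q = q') (w : q ≫ a = b) (w' : q' ≫ a = b)
    {c c' : Fin N → ∀ i, Γ(P, (pull D b).U i)} (hc : c = c') (i : I)
    (z : MvPolynomial (Fin N) Γ(Z, (pull D a).U i)) : ev D a b q w c i z = ev D a b q' w' c' i z := by
  subst h hc
  rfl

include G H hU hb hs1 hs2 hs3 in
/-- Representability, tested on affine schemes. -/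
theorem exists_rep_aux [IsAffine S] [IsAffineHom a] [IsAffineHom y] : ∃ (R : Scheme.{u}) (r : R ⟶ S)
    (gR : pullback f r ⟶ Y), IsAffineHom r ∧ LocallyOfFinitePresentation r ∧ gR ≫ y = pullback.fst f r ∧
    ∀ (T : Scheme.{u}) [IsAffine T] (t : T ⟶ S) (g : pullback f t ⟶ Y), g ≫ y = pullback.fst f t →
      ∃! τ : T ⟶ R, ∃ h : τ ≫ r = t, bc f τ h ≫ gR = g := by
  let n := ULift.{u} (Σ l, Fin (r l))
  let V := AffineSpace n S
  let v : V ⟶ S := V ↘ S
  let xV : ∀ l, Fin (r l) → Γ(V, ⊤) := fun l e => AffineSpace.coord S (n := n) ⟨⟨l, e⟩⟩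
  obtain ⟨J, hJ, hJ'⟩ := exists_ideal D hU H y G s v xV
  have hfpv : LocallyOfFinitePresentation v := inferInstanceAs (LocallyOfFinitePresentation (AffineSpace n S ↘ S))
  have hav : IsAffineHom v := inferInstanceAs (IsAffineHom (AffineSpace n S ↘ S))
  let κ := kap J
  have hκ := lfp_kap J hJ
  let r' := κ ≫ v
  have hcond := (hJ' κ r' rfl).mpr (le_ker_kap J)
  obtain ⟨gR, hgR, hgRα⟩ := exists_hom hU G (pullback.fst f r' ≫ a) (pullback.fst f r') rfl
    (cfam (a := a) (f := f) D s r' (fun l e => κ.appTop (xV l e)))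
    (fun l => tw_mem D (hs1 l) _) hcond
  refine ⟨_, r', gR, ?_, ?_, hgR, ?_⟩
  · have : IsAffineHom κ := inferInstance
    infer_instance
  · infer_instance
  · intro T _ t g hg
    have hgw : g ≫ y ≫ a = pullback.fst f t ≫ a := by rw [← Category.assoc, hg]
    choose x hx using fun l => tw_surjective (isPullback_bc H t) D hU hb (hs2 l)
      (fun i => trU D (y ≫ a) (pullback.fst f t ≫ a) g hgw i (α l i)) (trU_mem D _ _ _ _ (G.mem l))
    have hgα : ∀ l i, trU D (y ≫ a) (pullback.fst f t ≫ a) g hgw i (α l i) =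
        cfam (a := a) (f := f) D s t x l i := fun l i => (congrFun (hx l) i).symm
    have hcg : Cond (α := α) D a f y s t x := by
      intro i z hz
      have h1 := trU_ev D a (y ≫ a) y rfl α (pullback.fst f t ≫ a) g hgw i z
      rw [hz, map_zero] at h1
      rw [h1]
      exact ev_congr D _ hg.symm _ _ (by funext l i; exact (hgα l i).symm) i z
    let τV : T ⟶ V := AffineSpace.homOfVector t (fun j : n => x j.down.1 j.down.2)
    have hτV : τV ≫ v = t := AffineSpace.homOfVector_over _ _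
    have hτVx : ∀ l e, τV.appTop (xV l e) = x l e := fun l e =>
      AffineSpace.homOfVector_appTop_coord t (fun j : n => x j.down.1 j.down.2) ⟨⟨l, e⟩⟩
    have hker : J ≤ RingHom.ker τV.appTop.hom := by
      rw [← hJ' τV t hτV]
      have : (fun l e => τV.appTop (xV l e)) = x := by
        funext l e
        exact hτVx l e
      rw [this]
      exact hcg
    obtain ⟨τ, hτ⟩ := exists_kap J τV hker
    have hform : ∀ (τ' : T ⟶ _) (h' : τ' ≫ r' = t) (hw : (bc f τ' h' ≫ gR) ≫ y ≫ a = pullback.fst f t ≫ a)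
        (l : Fin N) (i : I), trU D (y ≫ a) (pullback.fst f t ≫ a) (bc f τ' h' ≫ gR) hw i (α l i) =
        tw D (pullback.fst f t ≫ a) (pullback.snd f t) (s l) (fun e => τ'.appTop (κ.appTop (xV l e))) i := by
      intro τ' h' hw l i
      rw [← trU_trU D (y ≫ a) (pullback.fst f r' ≫ a) (pullback.fst f t ≫ a) gR
        (by rw [← Category.assoc, hgR]) (bc f τ' h') (bc_fst_assoc f τ' h' a), hgRα]
      exact trU_tw D (bc f τ' h') (bc_fst_assoc f τ' h' a) τ' (bc_snd f τ' h') (s l) _ i
    have hτr : τ ≫ r' = t := by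
      rw [← hτV, ← hτ, Category.assoc]
    have hwτ : ∀ (τ' : T ⟶ _) (h' : τ' ≫ r' = t), (bc f τ' h' ≫ gR) ≫ y = pullback.fst f t := by
      intro τ' h'
      rw [Category.assoc, hgR, bc_fst]
    have hwτ' : ∀ (τ' : T ⟶ _) (h' : τ' ≫ r' = t), (bc f τ' h' ≫ gR) ≫ y ≫ a = pullback.fst f t ≫ a := by
      intro τ' h'
      rw [← Category.assoc, hwτ]
    refine ⟨τ, ⟨hτr, ?_⟩, ?_⟩
    · refine hom_eq' hU G (b := pullback.fst f t ≫ a) ((hwτ τ hτr).trans hg.symm) (hwτ' τ hτr) hgw fun l i => ?_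
      rw [hform τ hτr, hgα]
      have e1 : (fun e => τ.appTop (κ.appTop (xV l e))) = x l := by
        funext e
        rw [← hτVx, ← hτ, Scheme.Hom.comp_appTop]
        rfl
      rw [e1]
      rfl
    · rintro τ' ⟨h', hg'⟩
      rw [← cancel_mono κ, hτ]
      have e2 : ∀ l, (fun e => τ'.appTop (κ.appTop (xV l e))) = x l := by
        intro l
        refine tw_injective (isPullback_bc H t) D hU (hs3 l) ?_
        funext i
        rw [hx l, ← hform τ' h' (hwτ' τ' h')]
        have e3 : ∀ (g' : pullback f t ⟶ Y) (hgg : g' = g) (hw : g' ≫ y ≫ a = pullback.fst f t ≫ a),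
            trU D (y ≫ a) (pullback.fst f t ≫ a) g' hw i (α l i) =
              trU D (y ≫ a) (pullback.fst f t ≫ a) g hgw i (α l i) := by
          rintro g' rfl hw
          rfl
        exact e3 _ hg' _
      refine AffineSpace.hom_ext ?_ fun j => ?_
      · change (τ' ≫ κ) ≫ v = τV ≫ v
        rw [hτV, Category.assoc, h']
      · have e4 := congrFun (e2 j.down.1) j.down.2
        have e5 := hτVx j.down.1 j.down.2
        exact e4.trans e5.symm

end main

end K37.AffWeil
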