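import Groth.Agent.FGA.K37.AffWeil
import Groth.Prelude.Def_WeilRes

/-!
# Weil restriction: the two models of the base change
-/

set_option autoImplicit false
universe u

open CategoryTheory CategoryTheory.Limits AlgebraicGeometry Opposite TopologicalSpace

namespace K37.WeilConv

open K37.AffWeil

variable {Z S Y : Scheme.{u}} (f : Z ⟶ S) (y : Y ⟶ Z)

/-- `y : Y ⟶ Z` as a `Z`-scheme. -/
noncomputable abbrev YO : Over Z := Over.mk y

/-- The comparison of the two models. -/
noncomputable def sym (T : Over S) : (Red.bc f T).left ≅ pullback f T.hom := pullbackSymmetry T.hom f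

theorem sym_hom_fst (T : Over S) : (sym f T).hom ≫ pullback.fst f T.hom = (Red.bc f T).hom :=
  pullbackSymmetry_hom_comp_fst _ _

theorem sym_inv_hom (T : Over S) : (sym f T).inv ≫ (Red.bc f T).hom = pullback.fst f T.hom :=
  pullbackSymmetry_inv_comp_snd _ _

theorem sym_nat {T T' : Over S} (g : T' ⟶ T) :
    ((Over.pullback f).map g).left ≫ (sym f T).hom = (sym f T').hom ≫ bc f g.left (Over.w g) := by
  apply pullback.hom_ext
  · rw [Category.assoc, Category.assoc, bc_fst, sym_hom_fst, sym_hom_fst]
    exact Over.w _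
  · rw [Category.assoc, Category.assoc, bc_snd]
    have h1 : (sym f T).hom ≫ pullback.snd f T.hom = pullback.fst T.hom f := pullbackSymmetry_hom_comp_snd _ _
    have h2 : (sym f T').hom ≫ pullback.snd f T'.hom = pullback.fst T'.hom f := pullbackSymmetry_hom_comp_snd _ _
    rw [h1, ← Category.assoc, h2]
    exact pullback.lift_fst _ _ _

/-- Sections as morphisms. -/
noncomputable def toG {T : Over S} (x : Red.bc f T ⟶ YO y) : pullback f T.hom ⟶ Y := (sym f T).inv ≫ x.left

theorem toG_comp {T : Over S} (x : Red.bc f T ⟶ YO y) : toG f y x ≫ y = pullback.fst f T.hom := by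
  rw [toG, Category.assoc, ← sym_inv_hom]
  congr 1
  exact Over.w x

/-- Morphisms as sections. -/
noncomputable def ofG {T : Over S} (g : pullback f T.hom ⟶ Y) (hg : g ≫ y = pullback.fst f T.hom) :
    Red.bc f T ⟶ YO y :=
  Over.homMk ((sym f T).hom ≫ g) (by
    change ((sym f T).hom ≫ g) ≫ y = _
    rw [Category.assoc, hg, sym_hom_fst])

theorem toG_ofG {T : Over S} (g : pullback f T.hom ⟶ Y) (hg : g ≫ y = pullback.fst f T.hom) :
    toG f y (ofG f y g hg) = g := by
  exact Iso.inv_hom_id_assoc (sym f T) g

theorem toG_injective {T : Over S} {x x' : Red.bc f T ⟶ YO y} (h : toG f y x = toG f y x') : x = x' := by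
  apply Over.OverMorphism.ext
  exact (cancel_epi (sym f T).inv).mp h

theorem toG_restr {R T : Over S} (q : Red.bc f R ⟶ YO y) (g : T ⟶ R) :
    toG f y (WeilRes.restr f q T g) = bc f g.left (Over.w g) ≫ toG f y q := by
  rw [WeilRes.restr_apply, toG, toG, Over.comp_left]
  have h := sym_nat f g
  rw [← Iso.eq_comp_inv, Category.assoc] at h
  rw [h, ← Category.assoc, ← Category.assoc, ← Category.assoc, Iso.inv_hom_id, Category.id_comp, Category.assoc]

end K37.WeilConv
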