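import Mathlib.AlgebraicGeometry.AffineScheme
import Mathlib.AlgebraicGeometry.Morphisms.Affine

/-!
# Morphisms into an affine open

`mor hU φ : W ⟶ Y` for an affine open `U` of `Y` and `φ : Γ(Y, U) ⟶ Γ(W, ⊤)`.
-/

set_option autoImplicit false
universe u

open CategoryTheory CategoryTheory.Limits AlgebraicGeometry Opposite TopologicalSpace

namespace K37.MorAff

variable {W W' Y Z : Scheme.{u}} {U : Y.Opens}

/-- The morphism defined by a ring homomorphism from the functions on an affine open. -/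
noncomputable def mor (hU : IsAffineOpen U) (φ : Γ(Y, U) ⟶ Γ(W, ⊤)) : W ⟶ Y :=
  W.toSpecΓ ≫ Spec.map φ ≫ hU.fromSpec

theorem le_mor (hU : IsAffineOpen U) (φ : Γ(Y, U) ⟶ Γ(W, ⊤)) : ⊤ ≤ mor hU φ ⁻¹ᵁ U := by
  have h : mor hU φ ⁻¹ᵁ U = (W.toSpecΓ ≫ Spec.map φ) ⁻¹ᵁ (hU.fromSpec ⁻¹ᵁ U) := by
    rw [mor, ← Category.assoc]
    rfl
  rw [h, hU.fromSpec_preimage_self]
  exact le_rfl

theorem eq_mor (hU : IsAffineOpen U) (f : W ⟶ Y) (h : ⊤ ≤ f ⁻¹ᵁ U) : mor hU (f.appLE U ⊤ h) = f := by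
  have h1 := Scheme.Opens.toSpecΓ_SpecMap_appLE f U ⊤ h
  have h2 := congrArg (fun a => a ≫ hU.fromSpec) h1
  simp only [Category.assoc, hU.toSpecΓ_fromSpec, Scheme.Hom.resLE_comp_ι, Scheme.Opens.toSpecΓ_top] at h2
  have : IsIso (⊤ : W.Opens).ι := inferInstanceAs (IsIso W.topIso.hom)
  rw [← cancel_epi (⊤ : W.Opens).ι]
  exact h2

theorem hom_ext (hU : IsAffineOpen U) {f g : W ⟶ Y} (hf : ⊤ ≤ f ⁻¹ᵁ U) (hg : ⊤ ≤ g ⁻¹ᵁ U)
    (h : f.appLE U ⊤ hf = g.appLE U ⊤ hg) : f = g := by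
  rw [← eq_mor hU f hf, ← eq_mor hU g hg, h]

theorem appTop_comp (V : Scheme.{u}) (A : CommRingCat.{u}) (φ : A ⟶ Γ(V, ⊤)) :
    (V.toSpecΓ ≫ Spec.map φ).appTop = (Scheme.ΓSpecIso A).hom ≫ φ := by
  rw [Scheme.Hom.comp_appTop, Scheme.toSpecΓ_appTop, Scheme.ΓSpecIso_naturality]

theorem mor_injective (hU : IsAffineOpen U) {φ ψ : Γ(Y, U) ⟶ Γ(W, ⊤)} (h : mor hU φ = mor hU ψ) : φ = ψ := by
  rw [mor, mor, ← Category.assoc, ← Category.assoc, cancel_mono] at h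
  have h1 := congrArg (fun f => Scheme.Hom.appTop f) h
  simp only [appTop_comp] at h1
  exact (cancel_epi _).mp h1

theorem appLE_mor (hU : IsAffineOpen U) (φ : Γ(Y, U) ⟶ Γ(W, ⊤)) :
    (mor hU φ).appLE U ⊤ (le_mor hU φ) = φ :=
  mor_injective hU (eq_mor hU (mor hU φ) (le_mor hU φ))

theorem mor_comp (hU : IsAffineOpen U) (φ : Γ(Y, U) ⟶ Γ(W, ⊤)) (y : Y ⟶ Z) {V : Z.Opens} (hV : IsAffineOpen V)
    (h : U ≤ y ⁻¹ᵁ V) : mor hU φ ≫ y = mor hV (y.appLE V U h ≫ φ) := by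
  rw [mor, mor, Category.assoc, Category.assoc, Spec.map_comp, Category.assoc,
    IsAffineOpen.SpecMap_appLE_fromSpec y hV hU h]

theorem comp_mor (hU : IsAffineOpen U) (φ : Γ(Y, U) ⟶ Γ(W, ⊤)) (g : W' ⟶ W) :
    g ≫ mor hU φ = mor hU (φ ≫ g.appTop) := by
  rw [mor, mor, Spec.map_comp, Category.assoc, ← Scheme.toSpecΓ_naturality_assoc]

end K37.MorAff
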