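import Groth.Agent.Pi1C.GrCone
import Groth.Agent.EGA2.K36.GlueAff
import Groth.Agent.FGA.K37.MorAff
import Mathlib.AlgebraicGeometry.Morphisms.FinitePresentation

/-!
# Morphisms into a scheme affine over `Z` in terms of twisted sections
-/

set_option autoImplicit false
universe u

open CategoryTheory CategoryTheory.Limits AlgebraicGeometry Opposite TopologicalSpace

namespace K37.HomY

open Groth.Agent.VarietyB.ProjGlue Groth.Agent.Pi1C.TwistSec Groth.Agent.Pi1C.GrCone K37.MorAff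

section general

variable {P : Scheme.{u}} {I : Type} (D : CoordData P I)

/-- A twisted section is determined on `U i` by its value on `U j ⊇ U i`. -/
theorem sec_eq {m : ℤ} {σ σ' : ∀ i, Γ(P, D.U i)} (h : σ ∈ Sec D m) (h' : σ' ∈ Sec D m) {i j : I}
    (hij : D.U i ≤ D.U j) (hj : σ j = σ' j) : σ i = σ' i := by
  have h1 : resL D i j (σ i) = resL D i j (σ' i) := by
    rw [(mem_Sec D).mp h i j, (mem_Sec D).mp h' i j, hj]
  have h2 := congrArg (res (le_inf le_rfl hij : D.U i ≤ D.U i ⊓ D.U j)) h1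
  rwa [resL_eq_res, resL_eq_res, res_res, res_res, res_self, res_self] at h2

theorem ι_appLE_bijective (V : P.Opens) (h : (⊤ : V.toScheme.Opens) ≤ V.ι ⁻¹ᵁ V) :
    Function.Bijective (V.ι.appLE V ⊤ h).hom := by
  have h1 : V.ι.appLE V ⊤ h = V.topIso.inv := by
    rw [Scheme.Opens.ι_appLE]
    rfl
  rw [h1]
  exact ConcreteCategory.bijective_of_isIso V.topIso.inv

theorem res_injective_of_top {P : Scheme.{u}} {V : P.Opens} (h : (⊤ : P.Opens) ≤ V) :
    Function.Injective (res h : Γ(P, V) →+* Γ(P, ⊤)) := by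
  intro z z' hz
  have h1 := congrArg (res (le_top : V ≤ ⊤)) hz
  rwa [res_res, res_res, res_self, res_self] at h1

end general

section ev

variable {X Z : Scheme.{u}} {I : Type} (D : CoordData X I) (a : Z ⟶ X) {N : ℕ}

/-- Evaluation of polynomials at families of functions. -/
noncomputable def ev {P : Scheme.{u}} (b : P ⟶ X) (q : P ⟶ Z) (w : q ≫ a = b)
    (c : Fin N → ∀ i, Γ(P, (pull D b).U i)) (i : I) :
    MvPolynomial (Fin N) Γ(Z, (pull D a).U i) →+* Γ(P, (pull D b).U i) :=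
  MvPolynomial.eval₂Hom (trU D a b q w i) (fun l => c l i)

theorem ev_C {P : Scheme.{u}} (b : P ⟶ X) (q : P ⟶ Z) (w : q ≫ a = b)
    (c : Fin N → ∀ i, Γ(P, (pull D b).U i)) (i : I) (x : Γ(Z, (pull D a).U i)) :
    ev D a b q w c i (MvPolynomial.C x) = trU D a b q w i x :=
  MvPolynomial.eval₂Hom_C _ _ _

theorem ev_X {P : Scheme.{u}} (b : P ⟶ X) (q : P ⟶ Z) (w : q ≫ a = b)
    (c : Fin N → ∀ i, Γ(P, (pull D b).U i)) (i : I) (l : Fin N) :
    ev D a b q w c i (MvPolynomial.X l) = c l i :=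
  MvPolynomial.eval₂Hom_X' _ _ _

/-- Naturality of the evaluation. -/
theorem trU_ev {P P' : Scheme.{u}} (b : P ⟶ X) (q : P ⟶ Z) (w : q ≫ a = b)
    (c : Fin N → ∀ i, Γ(P, (pull D b).U i)) (b' : P' ⟶ X) (h : P' ⟶ P) (w' : h ≫ b = b') (i : I)
    (z : MvPolynomial (Fin N) Γ(Z, (pull D a).U i)) :
    trU D b b' h w' i (ev D a b q w c i z) =
      ev D a b' (h ≫ q) (by rw [Category.assoc, w, w']) (fun l i => trU D b b' h w' i (c l i)) i z := by
  have h1 : (trU D b b' h w' i).comp (ev D a b q w c i) =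
      ev D a b' (h ≫ q) (by rw [Category.assoc, w, w']) (fun l i => trU D b b' h w' i (c l i)) i := by
    apply MvPolynomial.ringHom_ext
    · intro x
      rw [RingHom.comp_apply, ev_C, ev_C]
      exact trU_trU D a b b' q w h w' i x
    · intro l
      rw [RingHom.comp_apply, ev_X, ev_X]
  exact congrArg (fun φ => φ z) h1

end ev

section gen

variable {X Z Y : Scheme.{u}} {I : Type} (D : CoordData X I) (a : Z ⟶ X) (y : Y ⟶ Z)

/-- A finite family of twisted sections on `Y` which generate the functions on all charts. -/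
structure GenFam (N : ℕ) (m : Fin N → ℤ) (α : Fin N → ∀ i, Γ(Y, (pull D (y ≫ a)).U i)) : Prop where
  mem : ∀ l, α l ∈ Sec (pull D (y ≫ a)) (m l)
  surj : ∀ i, Function.Surjective (ev D a (y ≫ a) y rfl α i)
  fg : ∀ i, (RingHom.ker (ev D a (y ≫ a) y rfl α i)).FG

variable {D a y} [IsAffineHom a] [IsAffineHom y] (hU : ∀ i, IsAffineOpen (D.U i)) {N : ℕ} {m : Fin N → ℤ}
  {α : Fin N → ∀ i, Γ(Y, (pull D (y ≫ a)).U i)} (G : GenFam D a y N m α)

include hU G

/-- Two morphisms over `Z`, landing in the chart `i`, with the same effect on the generators, agree. -/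
theorem hom_eq {W : Scheme.{u}} {b' : W ⟶ X} {u v : W ⟶ Y} (huv : u ≫ y = v ≫ y) (hu : u ≫ y ≫ a = b')
    (hv : v ≫ y ≫ a = b') (i : I) (hi : ⊤ ≤ (pull D b').U i)
    (h : ∀ l, trU D (y ≫ a) b' u hu i (α l i) = trU D (y ≫ a) b' v hv i (α l i)) : u = v := by
  have hY : IsAffineOpen ((pull D (y ≫ a)).U i) := pull_isAffineOpen D (y ≫ a) hU i
  have hu' : ⊤ ≤ u ⁻¹ᵁ ((pull D (y ≫ a)).U i) := by
    subst hu
    exact hi
  have hv' : ⊤ ≤ v ⁻¹ᵁ ((pull D (y ≫ a)).U i) := by
    subst hv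
    exact hi
  have h1 : trU D (y ≫ a) b' u hu i = trU D (y ≫ a) b' v hv i := by
    have h2 : (trU D (y ≫ a) b' u hu i).comp (ev D a (y ≫ a) y rfl α i) =
        (trU D (y ≫ a) b' v hv i).comp (ev D a (y ≫ a) y rfl α i) := by
      apply MvPolynomial.ringHom_ext
      · intro x
        rw [RingHom.comp_apply, RingHom.comp_apply, ev_C, trU_trU, trU_trU]
        congr 2
      · intro l
        rw [RingHom.comp_apply, RingHom.comp_apply, ev_X]
        exact h l
    ext x
    obtain ⟨z, rfl⟩ := G.surj i x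
    exact congrArg (fun φ => φ z) h2
  refine hom_ext hY hu' hv' ?_
  have h3 : ∀ (f : W ⟶ Y) (hf : f ≫ y ≫ a = b') (hf' : ⊤ ≤ f ⁻¹ᵁ ((pull D (y ≫ a)).U i)),
      f.appLE ((pull D (y ≫ a)).U i) ⊤ hf' =
        CommRingCat.ofHom (trU D (y ≫ a) b' f hf i) ≫ W.presheaf.map (homOfLE hi).op := by
    intro f hf hf'
    exact (Scheme.Hom.appLE_map (f := f) _ (homOfLE hi).op).symm
  rw [h3 u hu hu', h3 v hv hv', h1]

/-- Morphisms over `Z` with the same effect on the generators agree. -/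
theorem hom_eq' {P : Scheme.{u}} {b : P ⟶ X} {u v : P ⟶ Y} (huv : u ≫ y = v ≫ y) (hu : u ≫ y ≫ a = b)
    (hv : v ≫ y ≫ a = b) (h : ∀ l i, trU D (y ≫ a) b u hu i (α l i) = trU D (y ≫ a) b v hv i (α l i)) : u = v := by
  have hcov : ∀ x : P, ∃ i : ULift.{u} I, x ∈ (pull D b).U i.down := by
    intro x
    have hx : x ∈ ⨆ i, (pull D b).U i := (pull D b).iSup_U ▸ (trivial : x ∈ (⊤ : P.Opens))
    obtain ⟨i, hi⟩ := Opens.mem_iSup.mp hx
    exact ⟨⟨i⟩, hi⟩
  refine K36.GlueAff.hom_ext_opens (fun i : ULift.{u} I => (pull D b).U i.down) hcov fun i => ?_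
  refine hom_eq hU G (b' := ((pull D b).U i.down).ι ≫ b) ?_ ?_ ?_ i.down ?_ fun l => ?_
  · rw [Category.assoc, Category.assoc, huv]
  · rw [Category.assoc, hu]
  · rw [Category.assoc, hv]
  · exact fun x _ => x.2
  · rw [← trU_trU D (y ≫ a) b _ u hu _ rfl, ← trU_trU D (y ≫ a) b _ v hv _ rfl, h l i.down]

/-- A family of twisted sections on `P` satisfying the relations of the generators comes from a morphism. -/
theorem exists_hom {P : Scheme.{u}} (b : P ⟶ X) (q : P ⟶ Z) (w : q ≫ a = b)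
    (c : Fin N → ∀ i, Γ(P, (pull D b).U i)) (hc : ∀ l, c l ∈ Sec (pull D b) (m l))
    (hrel : ∀ i z, ev D a (y ≫ a) y rfl α i z = 0 → ev D a b q w c i z = 0) :
    ∃ (g : P ⟶ Y) (hg : g ≫ y = q), ∀ l i, trU D (y ≫ a) b g (by rw [← Category.assoc, hg, w]) i (α l i) = c l i := by
  have hY : ∀ i, IsAffineOpen ((pull D (y ≫ a)).U i) := fun i => pull_isAffineOpen D (y ≫ a) hU i
  have hZ : ∀ i, IsAffineOpen ((pull D a).U i) := fun i => pull_isAffineOpen D a hU i
  let φ : ∀ i, Γ(Y, (pull D (y ≫ a)).U i) →+* Γ(P, (pull D b).U i) := fun i =>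
    (ev D a (y ≫ a) y rfl α i).liftOfSurjective (G.surj i) ⟨ev D a b q w c i, fun z hz => hrel i z hz⟩
  have hφ : ∀ i z, φ i (ev D a (y ≫ a) y rfl α i z) = ev D a b q w c i z := fun i z =>
    RingHom.liftOfSurjective_comp_apply _ (G.surj i) ⟨ev D a b q w c i, fun z hz => hrel i z hz⟩ z
  have hφα : ∀ i l, φ i (α l i) = c l i := by
    intro i l
    have h1 := hφ i (MvPolynomial.X l)
    rwa [ev_X, ev_X] at h1
  have hφC : ∀ i x, φ i (trU D a (y ≫ a) y rfl i x) = trU D a b q w i x := by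
    intro i x
    have h1 := hφ i (MvPolynomial.C x)
    rwa [ev_C, ev_C] at h1
  let g : ∀ i, ((pull D b).U i).toScheme ⟶ Y := fun i =>
    mor (hY i) (CommRingCat.ofHom (φ i) ≫ ((pull D b).U i).ι.appLE ((pull D b).U i) ⊤ (fun x _ => x.2))
  have hg1 : ∀ i, g i ≫ y = ((pull D b).U i).ι ≫ q := by
    intro i
    have e : (⊤ : ((pull D b).U i).toScheme.Opens) ≤ (((pull D b).U i).ι ≫ q) ⁻¹ᵁ (pull D a).U i := by
      subst w
      exact fun x _ => x.2
    rw [← eq_mor (hZ i) (((pull D b).U i).ι ≫ q) e]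
    rw [mor_comp (hY i) _ y (hZ i) le_rfl]
    congr 1
    ext x
    have h2 := hφC i x
    have h3 : (((pull D b).U i).ι ≫ q).appLE ((pull D a).U i) ⊤ e =
      CommRingCat.ofHom (trU D a b q w i) ≫ ((pull D b).U i).ι.appLE ((pull D b).U i) ⊤ (fun x _ => x.2) :=
      (Scheme.Hom.appLE_comp_appLE _ _ _ _ _ _ _).symm
    rw [h3]
    exact congrArg (fun r => (((pull D b).U i).ι.appLE ((pull D b).U i) ⊤ (fun x _ => x.2)).hom r) h2
  have hg2 : ∀ i l, trU D (y ≫ a) (((pull D b).U i).ι ≫ b) (g i)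
      (by rw [← Category.assoc, hg1, Category.assoc, w]) i (α l i) =
      trU D b (((pull D b).U i).ι ≫ b) ((pull D b).U i).ι rfl i (c l i) := by
    intro i l
    apply res_injective_of_top (V := (pull D (((pull D b).U i).ι ≫ b)).U i) (fun x _ => x.2)
    have h4 := appLE_mor (hY i) (CommRingCat.ofHom (φ i) ≫
      ((pull D b).U i).ι.appLE ((pull D b).U i) ⊤ (fun x _ => x.2))
    have h5 := congrArg (fun ψ => ψ.hom (α l i)) h4
    have h6 := congrArg (fun ψ => ψ.hom (α l i)) (Scheme.Hom.appLE_map (f := g i)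
      (U := (pull D (y ≫ a)).U i) (V := (pull D (((pull D b).U i).ι ≫ b)).U i)
      (V' := ⊤) (by
        have h7 : g i ≫ y ≫ a = ((pull D b).U i).ι ≫ b := by rw [← Category.assoc, hg1, Category.assoc, w]
        have h8 : (pull D (((pull D b).U i).ι ≫ b)).U i = (g i ≫ y ≫ a) ⁻¹ᵁ D.U i := by rw [h7]; rfl
        rw [h8]
        exact le_rfl) (homOfLE (fun x _ => x.2)).op)
    have h7 := congrArg (fun ψ => ψ.hom (c l i)) (Scheme.Hom.appLE_map (f := ((pull D b).U i).ι)
      (U := (pull D b).U i) (V := (pull D (((pull D b).U i).ι ≫ b)).U i)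
      (V' := ⊤) le_rfl (homOfLE (fun x _ => x.2)).op)
    refine h6.trans (h5.trans (Eq.trans ?_ h7.symm))
    exact congrArg (fun r => (((pull D b).U i).ι.appLE ((pull D b).U i) ⊤ (fun x _ => x.2)).hom r) (hφα i l)
  have hcompat : ∀ i j, P.homOfLE (inf_le_left : (pull D b).U i ⊓ (pull D b).U j ≤ (pull D b).U i) ≫ g i =
      P.homOfLE (inf_le_right : (pull D b).U i ⊓ (pull D b).U j ≤ (pull D b).U j) ≫ g j := by
    intro i j
    set W := (pull D b).U i ⊓ (pull D b).U j with hW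
    have key : ∀ (e : I) (hle : W ≤ (pull D b).U e)
        (hu : (P.homOfLE hle ≫ g e) ≫ y ≫ a = W.ι ≫ b) (l : Fin N),
        trU D (y ≫ a) (W.ι ≫ b) (P.homOfLE hle ≫ g e) hu e (α l e) = trU D b (W.ι ≫ b) W.ι rfl e (c l e) := by
      intro e hle hu l
      have e1 : P.homOfLE hle ≫ ((pull D b).U e).ι ≫ b = W.ι ≫ b := by
        rw [← Category.assoc, Scheme.homOfLE_ι]
      rw [← trU_trU D (y ≫ a) (((pull D b).U e).ι ≫ b) (W.ι ≫ b) (g e)
        (by rw [← Category.assoc, hg1, Category.assoc, w]) (P.homOfLE hle) e1, hg2, trU_trU]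
      have e2 : P.homOfLE hle ≫ ((pull D b).U e).ι = W.ι := Scheme.homOfLE_ι _ _
      congr 2
    have hu' : ∀ (e : I) (hle : W ≤ (pull D b).U e), (P.homOfLE hle ≫ g e) ≫ y = W.ι ≫ q := by
      intro e hle
      rw [Category.assoc, hg1, ← Category.assoc, Scheme.homOfLE_ι]
    have hu : ∀ (e : I) (hle : W ≤ (pull D b).U e), (P.homOfLE hle ≫ g e) ≫ y ≫ a = W.ι ≫ b := by
      intro e hle
      rw [← Category.assoc, hu', Category.assoc, w]
    refine hom_eq hU G (b' := W.ι ≫ b) ?_ (hu i inf_le_left) (hu j inf_le_right) i ?_ fun l => ?_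
    · rw [hu', hu']
    · exact fun x _ => x.2.1
    · rw [key i inf_le_left (hu i inf_le_left) l]
      refine (sec_eq (pull D (W.ι ≫ b)) (m := m l)
        (σ := fun i => trU D (y ≫ a) (W.ι ≫ b) (P.homOfLE inf_le_right ≫ g j) (hu j inf_le_right) i (α l i))
        (σ' := fun i => trU D b (W.ι ≫ b) W.ι rfl i (c l i)) (trU_mem D _ _ _ _ (G.mem l))
        (trU_mem D _ _ _ _ (hc l)) (i := i) (j := j) (fun x _ => x.2.2) ?_).symm
      exact key j inf_le_right (hu j inf_le_right) l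
  have hcov : ∀ x : P, ∃ i : ULift.{u} I, x ∈ (pull D b).U i.down := by
    intro x
    have hx : x ∈ ⨆ i, (pull D b).U i := (pull D b).iSup_U ▸ (trivial : x ∈ (⊤ : P.Opens))
    obtain ⟨i, hi⟩ := Opens.mem_iSup.mp hx
    exact ⟨⟨i⟩, hi⟩
  obtain ⟨f, hf⟩ := K36.GlueAff.exists_glue_opens (fun i : ULift.{u} I => (pull D b).U i.down) hcov
    (fun i => g i.down) (fun i j => hcompat i.down j.down)
  have hfy : f ≫ y = q := by
    refine K36.GlueAff.hom_ext_opens (fun i : ULift.{u} I => (pull D b).U i.down) hcov fun i => ?_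
    rw [← Category.assoc, hf, hg1]
  refine ⟨f, hfy, fun l i => ?_⟩
  have hinj : Function.Injective (trU D b (((pull D b).U i).ι ≫ b) ((pull D b).U i).ι rfl i) := by
    have h1 := (ι_appLE_bijective ((pull D b).U i) (fun x _ => x.2)).1
    have h2 := Scheme.Hom.appLE_map (f := ((pull D b).U i).ι)
      (U := (pull D b).U i) (V := (pull D (((pull D b).U i).ι ≫ b)).U i)
      (V' := ⊤) le_rfl (homOfLE (fun x _ => x.2)).op
    rw [← h2] at h1
    exact Function.Injective.of_comp h1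
  apply hinj
  rw [trU_trU, ← hg2]
  have e3 : ((pull D b).U i).ι ≫ f = g i := hf ⟨i⟩
  congr 2

end gen

section exist

variable {X Z Y : Scheme.{u}} {I : Type} (D : CoordData X I) (a : Z ⟶ X) (y : Y ⟶ Z) [IsAffineHom a] [IsAffineHom y]
  (hU : ∀ i, IsAffineOpen (D.U i)) (hb : ∀ i j, X.basicOpen (D.f i j) = D.U i ⊓ D.U j)

include hU in
theorem finitePresentation_trU [LocallyOfFinitePresentation y] (i : I) :
    (trU D a (y ≫ a) y rfl i).FinitePresentation :=
  y.finitePresentation_appLE (pull_isAffineOpen D a hU i) (pull_isAffineOpen D (y ≫ a) hU i) _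

include hU hb in
theorem exists_genFam [Finite I] [LocallyOfFinitePresentation y] :
    ∃ (N : ℕ) (m : Fin N → ℤ) (α : Fin N → ∀ i, Γ(Y, (pull D (y ≫ a)).U i)), GenFam D a y N m α := by
  classical
  have := Fintype.ofFinite I
  have hfp := finitePresentation_trU D a y hU
  have hft : ∀ i, ∃ s : Finset Γ(Y, (pull D (y ≫ a)).U i),
      letI := (trU D a (y ≫ a) y rfl i).toAlgebra
      Algebra.adjoin Γ(Z, (pull D a).U i) (s : Set Γ(Y, (pull D (y ≫ a)).U i)) = ⊤ := by
    intro i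
    exact (RingHom.FiniteType.of_finitePresentation (hfp i)).out
  choose s hs using hft
  let Λ := Σ i, s i
  choose N₀ σ hσ hσ' using fun x : Λ => exists_sec (pull D (y ≫ a)) (pull_isAffineOpen D (y ≫ a) hU)
    (pull_basicOpen D (y ≫ a) hb) x.1 x.2.1
  let e := Fintype.equivFin Λ
  have hsurj : ∀ i, Function.Surjective (ev D a (y ≫ a) y rfl (fun l => σ (e.symm l)) i) := by
    intro i
    letI := (trU D a (y ≫ a) y rfl i).toAlgebra
    have h1 : ∀ z, ev D a (y ≫ a) y rfl (fun l => σ (e.symm l)) i z =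
      MvPolynomial.aeval (R := Γ(Z, (pull D a).U i)) (fun l => σ (e.symm l) i) z := fun z => rfl
    have h2 : (MvPolynomial.aeval (R := Γ(Z, (pull D a).U i)) (fun l => σ (e.symm l) i)).range = ⊤ := by
      rw [eq_top_iff, ← hs i, Algebra.adjoin_le_iff]
      intro x hx
      refine ⟨MvPolynomial.X (e ⟨i, ⟨x, hx⟩⟩), ?_⟩
      change MvPolynomial.aeval _ _ = x
      rw [MvPolynomial.aeval_X, Equiv.symm_apply_apply]
      exact hσ' ⟨i, ⟨x, hx⟩⟩
    intro x
    obtain ⟨z, hz⟩ := (h2 ▸ trivial : x ∈ (MvPolynomial.aeval (R := Γ(Z, (pull D a).U i))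
      (fun l => σ (e.symm l) i)).range)
    exact ⟨z, hz⟩
  refine ⟨Fintype.card Λ, fun l => N₀ (e.symm l), fun l => σ (e.symm l), fun l => hσ _, hsurj, fun i => ?_⟩
  letI := (trU D a (y ≫ a) y rfl i).toAlgebra
  have : Algebra.FinitePresentation Γ(Z, (pull D a).U i) Γ(Y, (pull D (y ≫ a)).U i) := hfp i
  exact Algebra.FinitePresentation.ker_fG_of_surjective
    (MvPolynomial.aeval (R := Γ(Z, (pull D a).U i)) (fun l => σ (e.symm l) i)) (hsurj i)

end exist

end K37.HomY
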