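import Groth.Agent.PrincBund.K826.FpqcSheaf
import Groth.Agent.PrincBund.K826.TorsCover
import Groth.Agent.NonAbH1.K554.Fpqc
import Groth.Agent.Sga3.H828.FpqcRep
import Groth.Agent.Etbase.FpqcDescent

/-!
# The functor of equivariant morphisms `E × T ⟶ F` between torsors, and its representability

* `isoF a b`: the functor `T ↦ {s : E ⊗ T ⟶ F | s (g e, t) = g s (e, t)}`;
* `isFpqcSheaf_isoF`;
* `exists_rep`: for torsors `E`, `F` under an affine group scheme locally of finite presentation it is representable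
  by a scheme affine and locally of finite presentation over the base.
-/

set_option autoImplicit false
universe u

open CategoryTheory CategoryTheory.Limits MonoidalCategory CartesianMonoidalCategory MonObj GrpObj AlgebraicGeometry Opposite

namespace K37.IsomF

open K826.FpqcSheaf Groth.Agent.Desc.SecFunctor Groth.Agent.Desc.SecDescent Groth.Agent.Books.BorelOrb K554.Fpqc

variable {B : Scheme.{u}} {G E F : Over B} [GrpObj G] (a : AlgGrp.Action G E) (b : AlgGrp.Action G F)

/-- Equivariance of a morphism `E ⊗ T ⟶ F`. -/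
def Eqv {T : Over B} (s : E ⊗ T ⟶ F) : Prop :=
  ∀ (T' : Over B) (g : T' ⟶ G) (e : T' ⟶ E) (t : T' ⟶ T), lift (sm a g e) t ≫ s = sm b g (lift e t ≫ s)

variable {a b} in
theorem Eqv.comp {T T' : Over B} {s : E ⊗ T ⟶ F} (hs : Eqv a b s) (f : T' ⟶ T) : Eqv a b (E ◁ f ≫ s) := by
  intro T'' g e t
  rw [lift_whiskerLeft_assoc, lift_whiskerLeft_assoc, hs]

/-- The functor of equivariant morphisms. -/
noncomputable def isoF : (Over B)ᵒᵖ ⥤ Type u where
  obj T := {s : E ⊗ T.unop ⟶ F // Eqv a b s}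
  map f := ↾fun s => ⟨E ◁ f.unop ≫ s.1, s.2.comp f.unop⟩
  map_id T := by
    refine ConcreteCategory.ext_apply fun s => ?_
    apply Subtype.ext
    change (E ◁ 𝟙 _) ≫ s.1 = s.1
    rw [whiskerLeft_id, Category.id_comp]
  map_comp f g := by
    refine ConcreteCategory.ext_apply fun s => ?_
    apply Subtype.ext
    change (E ◁ (g.unop ≫ f.unop)) ≫ s.1 = E ◁ g.unop ≫ E ◁ f.unop ≫ s.1
    rw [whiskerLeft_comp, Category.assoc]

theorem isoF_map_val {T T' : Over B} (f : T' ⟶ T) (s : (isoF a b).obj (op T)) :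
    ((isoF a b).map f.op s).1 = E ◁ f ≫ s.1 := rfl

theorem snd_pull_mem {T : Over B} {Sv : Sieve T.left} (hS : Sv ∈ Scheme.fpqcTopology T.left)
    {Y : Over B} (f : Y ⟶ T) : Sv.pullback f.left ∈ Scheme.fpqcTopology Y.left :=
  (Scheme.fpqcTopology).pullback_stable f.left hS

theorem isFpqcSheaf_isoF : IsFpqcSheaf (isoF a b) := by
  intro T Sv hS f hf
  have hS' := snd_pull_mem hS (snd E T)
  have hm : ∀ {T' : Over B} {t : T' ⟶ E ⊗ T}, Sv.pullback (snd E T).left t.left →
      Sv (t ≫ snd E T).left := fun h => h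
  have hfv : ∀ (T' T'' : Over B) (r : T'' ⟶ T') (t : T' ⟶ T) (ht : Sv t.left)
      (ht' : Sv (r ≫ t).left), E ◁ r ≫ (f T' t ht).1 = (f T'' (r ≫ t) ht').1 := by
    intro T' T'' r t ht ht'
    exact congrArg Subtype.val (hf T' T'' r t ht ht')
  have hcg : ∀ (T' : Over B) (t t' : T' ⟶ T) (_ : t = t') (ht : Sv t.left) (ht' : Sv t'.left),
      (f T' t ht).1 = (f T' t' ht').1 := by
    rintro T' t t' rfl ht ht'
    rfl
  obtain ⟨h, hh, hu⟩ := isFpqcSheaf_yoneda F (E ⊗ T) _ hS'
    (fun T' t ht => (lift (t ≫ fst E T) (𝟙 T') ≫ (f T' (t ≫ snd E T) (hm ht)).1 : T' ⟶ F)) (by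
      intro T' T'' r t ht ht'
      change r ≫ lift (t ≫ fst E T) (𝟙 T') ≫ (f T' (t ≫ snd E T) (hm ht)).1 =
        lift ((r ≫ t) ≫ fst E T) (𝟙 T'') ≫ (f T'' ((r ≫ t) ≫ snd E T) (hm ht')).1
      have h1 := hfv T' T'' r (t ≫ snd E T) (hm ht) (by
        have := hm ht'
        rwa [Category.assoc] at this)
      rw [hcg T'' ((r ≫ t) ≫ snd E T) (r ≫ t ≫ snd E T) (Category.assoc _ _ _) (hm ht') (by
        have := hm ht'
        rwa [Category.assoc] at this), ← h1, lift_whiskerLeft_assoc, comp_lift_assoc,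
        Category.id_comp, Category.comp_id, Category.assoc])
  replace hh : ∀ (T' : Over B) (t : T' ⟶ E ⊗ T) (ht : Sv (t ≫ snd E T).left),
      t ≫ h = lift (t ≫ fst E T) (𝟙 T') ≫ (f T' (t ≫ snd E T) ht).1 := fun T' t ht => hh T' t ht
  have hh2 : ∀ (T' : Over B) (p : T' ⟶ E) (t : T' ⟶ T) (ht : Sv t.left),
      lift p t ≫ h = lift p (𝟙 T') ≫ (f T' t ht).1 := by
    intro T' p t ht
    rw [hh T' (lift p t) (by rwa [lift_snd]), hcg T' (lift p t ≫ snd E T) t (lift_snd _ _) _ ht,
      lift_fst]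
  have hE : Eqv a b h := by
    intro T' g p t
    have hS'' := snd_pull_mem hS t
    refine (isFpqcSheaf_yoneda F).ext hS'' fun T'' r hr => ?_
    change r ≫ _ = r ≫ _
    have hr' : Sv (r ≫ t).left := hr
    rw [comp_sm, ← Category.assoc, comp_lift, comp_sm, hh2 _ _ _ hr', (f T'' (r ≫ t) hr').2,
      ← Category.assoc, comp_lift, hh2 _ _ _ hr']
  refine ⟨⟨h, hE⟩, fun T' t ht => ?_, fun h' hh' => ?_⟩
  · apply Subtype.ext
    change E ◁ t ≫ h = (f T' t ht).1
    have h3 : (E ◁ t : E ⊗ T' ⟶ E ⊗ T) = lift (fst E T') (snd E T' ≫ t) := by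
      apply CartesianMonoidalCategory.hom_ext <;> simp
    rw [h3, hh2 _ _ _ (Sv.downward_closed ht _), ← hfv _ _ (snd E T') t ht, lift_whiskerLeft_assoc,
      Category.id_comp, lift_fst_snd, Category.id_comp]
  · apply Subtype.ext
    change h'.1 = h
    apply hu
    intro T' t ht
    change t ≫ h'.1 = _
    have h4 := congrArg Subtype.val (hh' T' (t ≫ snd E T) (hm ht))
    change E ◁ (t ≫ snd E T) ≫ h'.1 = _ at h4
    rw [← h4, lift_whiskerLeft_assoc, Category.id_comp, ← comp_lift, lift_fst_snd,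
      Category.comp_id]

section triv

variable {a} (ha : NonAbH1.IsPseudoTorsorSch a)

/-- The equivariant map attached to a point `p0` of `E` and a point `q0` of `F`. -/
noncomputable def mkS {T : Over B} (p0 : T ⟶ E) (q0 : T ⟶ F) : E ⊗ T ⟶ F :=
  sm b (dif ha (fst E T) (snd E T ≫ p0)) (snd E T ≫ q0)

theorem lift_mkS {T T' : Over B} (p0 : T ⟶ E) (q0 : T ⟶ F) (p : T' ⟶ E) (t : T' ⟶ T) :
    lift p t ≫ mkS b ha p0 q0 = sm b (dif ha p (t ≫ p0)) (t ≫ q0) := by
  rw [mkS, comp_sm, comp_dif, lift_fst, ← Category.assoc, lift_snd, ← Category.assoc, lift_snd]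

theorem eqv_mkS {T : Over B} (p0 : T ⟶ E) (q0 : T ⟶ F) : Eqv a b (mkS b ha p0 q0) := by
  intro T' g e t
  rw [lift_mkS, lift_mkS, dif_sm_left, mul_sm]

theorem mkS_ev {T : Over B} (p0 : T ⟶ E) (s : E ⊗ T ⟶ F) (hs : Eqv a b s) :
    mkS b ha p0 (lift p0 (𝟙 T) ≫ s) = s := by
  apply AlgGrp.Action.hom_ext_lift₂
  intro T' p t
  rw [lift_mkS, ← Category.assoc, comp_lift, Category.comp_id, ← hs, sm_dif]

theorem ev_mkS {T : Over B} (p0 : T ⟶ E) (q0 : T ⟶ F) : lift p0 (𝟙 T) ≫ mkS b ha p0 q0 = q0 := by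
  rw [lift_mkS, Category.id_comp, Category.id_comp, dif_self, one_sm]

/-- The trivialisation of the functor over `S' ⟶ E`. -/
noncomputable def trivIso {S' : Scheme.{u}} (f : S' ⟶ B) (y : S' ⟶ E.left)
    (hy : y ≫ E.hom = f) : restr f (yoneda.obj F) ≅ restr f (isoF a b) :=
  let pt (T' : Over S') : (Over.map f).obj T' ⟶ E := Over.homMk (T'.hom ≫ y) (by simp [hy])
  NatIso.ofComponents (fun T' => Equiv.toIso
    { toFun := fun (j : (Over.map f).obj T'.unop ⟶ F) =>
        (⟨mkS b ha (pt T'.unop) j, eqv_mkS b ha _ _⟩ :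
          {s : E ⊗ (Over.map f).obj T'.unop ⟶ F // Eqv a b s})
      invFun := fun s => lift (pt T'.unop) (𝟙 _) ≫ s.1
      left_inv := fun j => ev_mkS b ha (pt T'.unop) j
      right_inv := fun s => Subtype.ext (mkS_ev b ha (pt T'.unop) s.1 s.2) }) (by
    intro T' T'' g
    refine ConcreteCategory.ext_apply fun j => ?_
    apply Subtype.ext
    have hpt : (Over.map f).map g.unop ≫ pt T'.unop = pt T''.unop := by
      ext1
      simp [pt]
    change mkS b ha (pt T''.unop) ((Over.map f).map g.unop ≫ j) =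
      E ◁ ((Over.map f).map g.unop) ≫ mkS b ha (pt T'.unop) j
    apply AlgGrp.Action.hom_ext_lift₂
    intro Y p t
    rw [lift_mkS, lift_whiskerLeft_assoc, lift_mkS, ← hpt, Category.assoc, Category.assoc])

end triv

theorem quasiAffine_of_affine {X Y : Scheme.{u}} (f : X ⟶ Y) [IsAffineHom f] : Mor2.IsQuasiAffine f := by
  refine ⟨inferInstance, fun V hV => ?_⟩
  have : IsAffine (f ⁻¹ᵁ V) := hV.preimage f
  infer_instance

variable {a b} in
/-- Representability of the functor of equivariant morphisms of torsors under an affine group. -/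
theorem exists_rep [IsAffineHom G.hom] [LocallyOfFinitePresentation G.hom]
    (ha : NonAbH1.IsTorsorFor Scheme.fpqcPrecoverage a) (hb : NonAbH1.IsTorsorFor Scheme.fpqcPrecoverage b) :
    ∃ I : Over B, IsAffineHom I.hom ∧ LocallyOfFinitePresentation I.hom ∧
      Nonempty ((isoF a b).RepresentableBy I) := by
  have hsh := isFpqcSheaf_isoF a b
  have := Groth.Agent.Etbase.FpqcDescent.descendsAlong_isAffineHom.{u}
  have hF1 : IsAffineHom F.hom := prop_of_isTorsorFor @IsAffineHom hb inferInstance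
  have hF2 : LocallyOfFinitePresentation F.hom := prop_of_isTorsorFor @LocallyOfFinitePresentation hb inferInstance
  obtain ⟨S', f, hf, hs, y, hy, hc⟩ := K826.TorsCover.exists_cover ha.2
  obtain ⟨I, hI, ⟨r⟩⟩ := Groth.Agent.Sga3.H828.FpqcRep.exists_rep_of_fpqcCover (isoF a b) hsh.isZarSheaf
    (fun g h1 h2 h3 => hsh.isDesc g h1 h2 h3) @IsAffineHom f hc fun s' => by
      refine ⟨⊤, trivial, (Over.pullback ((⊤ : S'.Opens).ι ≫ f)).obj F, ?_, ?_, ⟨?_⟩⟩
      · exact MorphismProperty.pullback_snd (P := @IsAffineHom) _ _ inferInstance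
      · have : IsAffineHom ((Over.pullback ((⊤ : S'.Opens).ι ≫ f)).obj F).hom :=
          MorphismProperty.pullback_snd (P := @IsAffineHom) _ _ inferInstance
        exact quasiAffine_of_affine _
      · refine (pullRep ((⊤ : S'.Opens).ι ≫ f) (G := yoneda.obj F) (V := F)
          (Functor.RepresentableBy.yoneda F)).ofIso ?_
        exact trivIso b ha.1 ((⊤ : S'.Opens).ι ≫ f) ((⊤ : S'.Opens).ι ≫ y) (by rw [Category.assoc, hy])
  refine ⟨I, hI, ?_, ⟨r⟩⟩
  obtain ⟨R, hR, hsec⟩ := ha.2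
  refine prop_of_family @LocallyOfFinitePresentation I.hom hR fun S'' f' hf' => ?_
  obtain ⟨σ, hσ⟩ := hsec f' hf'
  have e1 : (restr f' (isoF a b)).RepresentableBy ((Over.pullback f').obj I) := pullRep f' r
  have e2 : (restr f' (isoF a b)).RepresentableBy ((Over.pullback f').obj F) :=
    (pullRep f' (G := yoneda.obj F) (V := F) (Functor.RepresentableBy.yoneda F)).ofIso (trivIso b ha.1 f' σ hσ)
  have e3 := e1.uniqueUpToIso e2
  have h1 : ((Over.pullback f').obj I).hom = e3.hom.left ≫ ((Over.pullback f').obj F).hom := (Over.w e3.hom).symm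
  have h2 : LocallyOfFinitePresentation ((Over.pullback f').obj F).hom :=
    MorphismProperty.pullback_snd (P := @LocallyOfFinitePresentation) _ _ inferInstance
  change LocallyOfFinitePresentation ((Over.pullback f').obj I).hom
  rw [h1]
  infer_instance

end K37.IsomF
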