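import Groth.Agent.FGA.K37.IsomF

/-!
# Equivariant morphisms of torsors are isomorphisms; the form of equivariance with associators
-/

set_option autoImplicit false
universe u

open CategoryTheory CategoryTheory.Limits MonoidalCategory CartesianMonoidalCategory MonObj GrpObj AlgebraicGeometry Opposite

namespace K37.IsomW

open Groth.Agent.Books.BorelOrb K554.Fpqc K37.IsomF

variable {B : Scheme.{u}} {G E F : Over B} [GrpObj G] {a : AlgGrp.Action G E} {b : AlgGrp.Action G F}

theorem hom_ext_pts {A C W : Over B} {x y : A ⊗ C ⟶ W}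
    (h : ∀ (T : Over B) (p : T ⟶ A) (q : T ⟶ C), lift p q ≫ x = lift p q ≫ y) : x = y := by
  have := h _ (fst A C) (snd A C)
  rwa [lift_fst_snd, Category.id_comp, Category.id_comp] at this

theorem fpqc_of_fppf (ha : NonAbH1.IsTorsorFor Scheme.fppfPrecoverage a) :
    NonAbH1.IsTorsorFor Scheme.fpqcPrecoverage a := by
  obtain ⟨h1, R, hR, h2⟩ := ha
  exact ⟨h1, R, Scheme.fppfPrecoverage_le_fpqcPrecoverage B hR, h2⟩

/-- Equivariance in terms of the associator. -/
theorem assoc_iff {W : Over B} (ψ : E ⊗ W ⟶ F ⊗ W) (hψ : ψ ≫ snd F W = snd E W) :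
    (α_ G E W).inv ≫ (a.act ▷ W) ≫ ψ = (G ◁ ψ) ≫ (α_ G F W).inv ≫ (b.act ▷ W) ↔ Eqv a b (ψ ≫ fst F W) := by
  have h1 : ∀ (T : Over B) (g : T ⟶ G) (e : T ⟶ E) (t : T ⟶ W),
      lift g (lift e t) ≫ (α_ G E W).inv ≫ (a.act ▷ W) ≫ ψ = lift (sm a g e) t ≫ ψ := by
    intro T g e t
    have e1 : lift g (lift e t) ≫ (α_ G E W).inv = lift (lift g e) t := by
      apply CartesianMonoidalCategory.hom_ext
      · apply CartesianMonoidalCategory.hom_ext <;> simp
      · simp
    rw [reassoc_of% e1, lift_whiskerRight_assoc]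
    rfl
  have h2 : ∀ (T : Over B) (g : T ⟶ G) (e : T ⟶ E) (t : T ⟶ W),
      lift g (lift e t) ≫ (G ◁ ψ) ≫ (α_ G F W).inv ≫ (b.act ▷ W) =
        lift (sm b g (lift e t ≫ ψ ≫ fst F W)) t := by
    intro T g e t
    have e0 : lift e t ≫ ψ = lift (lift e t ≫ ψ ≫ fst F W) t := by
      apply CartesianMonoidalCategory.hom_ext
      · simp
      · rw [Category.assoc, hψ, lift_snd, lift_snd]
    have e1 : ∀ (p : T ⟶ F), lift g (lift p t) ≫ (α_ G F W).inv = lift (lift g p) t := by
      intro p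
      apply CartesianMonoidalCategory.hom_ext
      · apply CartesianMonoidalCategory.hom_ext <;> simp
      · simp
    rw [lift_whiskerLeft_assoc, e0, reassoc_of% (e1 _), lift_whiskerRight]
    rfl
  constructor
  · intro h T g e t
    have h3 := congrArg (fun z => lift g (lift e t) ≫ z ≫ fst F W) h
    simp only [← Category.assoc] at h3
    simp only [Category.assoc] at h3
    have h4 := h1 T g e t
    have h5 := h2 T g e t
    have h6 : lift (sm a g e) t ≫ ψ = lift (sm b g (lift e t ≫ ψ ≫ fst F W)) t := by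
      rw [← h4, ← h5, h]
    rw [← Category.assoc, h6, lift_fst]
  · intro h
    apply hom_ext_pts
    intro T g q
    have hq : q = lift (q ≫ fst E W) (q ≫ snd E W) := by
      rw [← comp_lift, lift_fst_snd, Category.comp_id]
    rw [hq, h1, h2]
    apply CartesianMonoidalCategory.hom_ext
    · rw [Category.assoc, h, lift_fst]
    · rw [Category.assoc, hψ, lift_snd, lift_snd]

/-- An equivariant morphism of torsors over `W` is an isomorphism. -/
theorem isIso_of_eqv (ha : NonAbH1.IsTorsorFor Scheme.fpqcPrecoverage a) (hb : NonAbH1.IsPseudoTorsorSch b)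
    {W : Over B} {s : E ⊗ W ⟶ F} (hs : Eqv a b s) : IsIso (lift s (snd E W)) := by
  have hpt : ∀ (T : Over B) (p : T ⟶ E) (t : T ⟶ W), lift p t ≫ lift s (snd E W) = lift (lift p t ≫ s) t := by
    intro T p t
    rw [comp_lift, lift_snd]
  have hmono : ∀ (T : Over B) (p q : T ⟶ E ⊗ W), p ≫ lift s (snd E W) = q ≫ lift s (snd E W) → p = q := by
    intro T p q h
    have hp : p = lift (p ≫ fst E W) (p ≫ snd E W) := by
      rw [← comp_lift, lift_fst_snd, Category.comp_id]
    have hq : q = lift (q ≫ fst E W) (q ≫ snd E W) := by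
      rw [← comp_lift, lift_fst_snd, Category.comp_id]
    have e2 : p ≫ snd E W = q ≫ snd E W := by
      have := congrArg (fun z => z ≫ snd F W) h
      simpa using this
    have e1 : p ≫ s = q ≫ s := by
      have := congrArg (fun z => z ≫ fst F W) h
      simpa using this
    have key : ∀ d : T ⟶ G, lift (sm a d (p ≫ fst E W)) (p ≫ snd E W) ≫ s = sm b d (p ≫ s) := by
      intro d
      rw [hs, ← hp]
    have h1 : sm b (dif ha.1 (q ≫ fst E W) (p ≫ fst E W)) (p ≫ s) = sm b 1 (p ≫ s) := by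
      rw [← key, sm_dif, e2, ← hq, one_sm, e1]
    have h2 := sm_injective hb _ h1
    have h3 := sm_dif ha.1 (q ≫ fst E W) (p ≫ fst E W)
    rw [h2, one_sm] at h3
    rw [hp, hq, h3, e2]
  set ψ := lift s (snd E W) with hψ
  have : Mono ψ := ⟨fun {T} p q h => hmono T p q h⟩
  have : Mono ψ.left := inferInstanceAs (Mono ((Over.forget B).map ψ))
  obtain ⟨R, hR, hsec⟩ := ha.2
  have h1 : IsIso ψ.left := by
    refine isIso_of_mono_of_local_sections Scheme.fpqcPrecoverage ψ.left
      (Precoverage.pullbackArrows_mem (F ⊗ W).hom hR) ?_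
    rintro U v ⟨Z, u, hu⟩
    obtain ⟨σ, hσ⟩ := hsec u hu
    let T : Over B := Over.mk (pullback.snd u (F ⊗ W).hom ≫ (F ⊗ W).hom)
    let v' : T ⟶ F ⊗ W := Over.homMk (pullback.snd u (F ⊗ W).hom) rfl
    let σ' : T ⟶ E := Over.homMk (pullback.fst u (F ⊗ W).hom ≫ σ) (by
      rw [Category.assoc, hσ, pullback.condition]; rfl)
    refine ⟨(lift (sm a (dif hb (v' ≫ fst F W) (lift σ' (v' ≫ snd F W) ≫ s)) σ') (v' ≫ snd F W)).left, ?_⟩
    rw [← Over.comp_left, hψ, hpt, hs, sm_dif, ← comp_lift, lift_fst_snd, Category.comp_id]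
    rfl
  have : IsIso ((Over.forget B).map ψ) := h1
  exact isIso_of_reflects_iso ψ (Over.forget B)

end K37.IsomW
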