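import Groth.Agent.FGA.K37.WeilConv
import Groth.Agent.CGrpSh3.K983.UnitsRep
import Groth.Agent.WeilRes.K933.WRBase
import Groth.Agent.Sga1.PushFun

/-!
# Weil restriction along `X ×_k S ⟶ S`, `X` proper over `k` with coordinate data, of an affine scheme of finite
presentation over `X ×_k S`
-/

set_option autoImplicit false
universe u

open CategoryTheory CategoryTheory.Limits AlgebraicGeometry Opposite TopologicalSpace

namespace K37.WeilGlobal

open Groth.Agent.VarietyB.ProjGlue Groth.Agent.Pi1C.TwistSec Groth.Agent.Pi1C.GrCone K37.MorAff K37.HomY K37.Coord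
  K37.AffWeil K37.WeilConv

variable {k : Type u} [Field k] {X : Scheme.{u}} {p : X ⟶ Spec (CommRingCat.of k)} [IsProper p]
  {I : Type} [Finite I] (D : CoordData X I) (hU : ∀ i, IsAffineOpen (D.U i))
  (hb : ∀ i j, X.basicOpen (D.f i j) = D.U i ⊓ D.U j)

include D hU hb in
/-- Affine base. -/
theorem exists_weilRes_affine {Z S Y : Scheme.{u}} {a : Z ⟶ X} {f : Z ⟶ S} {σ : S ⟶ Spec (CommRingCat.of k)}
    (H : IsPullback a f p σ) (y : Y ⟶ Z) [IsAffine S] [IsAffineHom y] [LocallyOfFinitePresentation y] :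
    ∃ (R : Over S) (q : Red.bc f R ⟶ Over.mk y), IsAffineHom R.hom ∧ LocallyOfFinitePresentation R.hom ∧
      WeilRes.IsWeilRes f (Over.mk y) R q := by
  have hσ : IsAffineHom σ := inferInstance
  have ha : IsAffineHom a := MorphismProperty.of_isPullback H.flip hσ
  obtain ⟨N, m, α, G⟩ := exists_genFam D a y hU hb
  choose r s hs1 hs2 hs3 using fun l : Fin N => K37.SecFin.exists_basis D (m l) k p
  obtain ⟨R, r', gR, hr1, hr2, hgR, hR⟩ := exists_rep_aux D hU hb H y G s hs1 hs2 hs3
  refine ⟨Over.mk r', ofG f y (T := Over.mk r') gR hgR, hr1, hr2, ?_⟩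
  refine K983.UnitsRep.isWeilRes_of_affine f _ fun A t => ?_
  constructor
  · intro g₁ g₂ h
    have h' := congrArg (toG f y) h
    rw [toG_restr, toG_restr, toG_ofG] at h'
    apply Over.OverMorphism.ext
    obtain ⟨τ, -, hτ⟩ := hR (Spec A) t (bc f g₁.left (Over.w g₁) ≫ gR) (by
      rw [Category.assoc, hgR]
      exact bc_fst f _ _)
    rw [hτ g₁.left ⟨Over.w g₁, rfl⟩, hτ g₂.left ⟨Over.w g₂, h'.symm⟩]
  · intro x
    obtain ⟨τ, ⟨hτ, hτ'⟩, -⟩ := hR (Spec A) t (toG f y x) (toG_comp f y x)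
    refine ⟨Over.homMk τ hτ, toG_injective f y ?_⟩
    rw [toG_restr, toG_ofG]
    exact hτ'

include D hU hb in
/-- **Weil restriction along `X ×_k S ⟶ S`** of an affine scheme of finite presentation. -/
theorem exists_weilRes {Z S Y : Scheme.{u}} {a : Z ⟶ X} {f : Z ⟶ S} {σ : S ⟶ Spec (CommRingCat.of k)}
    (H : IsPullback a f p σ) (y : Y ⟶ Z) [IsAffineHom y] [LocallyOfFinitePresentation y] :
    ∃ (R : Over S) (q : Red.bc f R ⟶ Over.mk y), IsAffineHom R.hom ∧ LocallyOfFinitePresentation R.hom ∧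
      WeilRes.IsWeilRes f (Over.mk y) R q := by
  have key : ∀ W : S.affineOpens, ∃ (U : Over (W.1).toScheme),
      (IsAffineHom U.hom ∧ LocallyOfFinitePresentation U.hom) ∧
      Nonempty ((Groth.Agent.Desc.SecFunctor.restr (W.1).ι (WeilRes.functor f (Over.mk y))).RepresentableBy U) := by
    intro W
    let v := (W.1).ι
    let v' := pullback.fst f v
    let f' := pullback.snd f v
    have hpb : IsPullback v' f' f v := IsPullback.of_hasPullback f v
    have hW : IsAffine (W.1).toScheme := W.2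
    let y' := ((Over.pullback v').obj (Over.mk y)).hom
    have hy1 : IsAffineHom y' := MorphismProperty.pullback_snd (P := @IsAffineHom) y v' inferInstance
    have hy2 : LocallyOfFinitePresentation y' :=
      MorphismProperty.pullback_snd (P := @LocallyOfFinitePresentation) y v' inferInstance
    obtain ⟨U, q, h1, h2, h3⟩ := exists_weilRes_affine D hU hb (hpb.paste_horiz H) y'
    exact ⟨U, ⟨h1, h2⟩, ⟨h3.representableBy.ofIso (K933.WRBase.restrictIso hpb.flip (Over.mk y)).symm⟩⟩
  choose U hP e using key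
  obtain ⟨R, hR, ⟨r⟩⟩ := Groth.Agent.Desc.ZarGlue.exists_rep_of_openCover_prop
    (F := WeilRes.functor f (Over.mk y)) (fun W : S.affineOpens => W.1) (fun s => by
      obtain ⟨_, ⟨W, hW, rfl⟩, hs, -⟩ := S.isBasis_affineOpens.exists_subset_of_mem_open (Set.mem_univ s) isOpen_univ
      exact ⟨⟨W, hW⟩, hs⟩) U (fun W => (e W).some)
    (Groth.Agent.Sga1.PushFun.isZarSheaf_push f (Groth.Agent.Sga1.PushFun.isZarSheaf_yoneda _))
    (@IsAffineHom ⊓ @LocallyOfFinitePresentation) (fun W => hP W)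
  exact ⟨R, r.homEquiv (𝟙 R), hR.1, hR.2, WeilRes.IsWeilRes.of_representableBy r⟩

end K37.WeilGlobal
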