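import Groth.Agent.FGA.K37.WeilGlobal
import Groth.Agent.VarietyB.ProjStd
import Groth.Agent.Ega3B.ProjProper

/-!
# Weil restriction along `X ×_k S ⟶ S`, `X` projective over `k`
-/

set_option autoImplicit false
universe u

open CategoryTheory CategoryTheory.Limits AlgebraicGeometry Opposite TopologicalSpace

namespace K37.WeilProj

open Groth.Agent.VarietyB.ProjGlue Groth.Agent.Pi1C.TwistSec K37.AffWeil K37.WeilConv

variable {k : Type u} [Field k] {n : ℕ} {X : Scheme.{u}}

/-- The standard coordinate data. -/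
noncomputable def std (n : ℕ) (k : Type u) [Field k] : CoordData (CohB1.ProjSpace n k) (Fin (n + 1)) :=
  Groth.Agent.VarietyB.ProjStd.stdData (Fin (n + 1)) k

theorem std_isAffineOpen (i : Fin (n + 1)) : IsAffineOpen ((std n k).U i) :=
  Groth.Agent.VarietyB.ProjStd.isAffineOpen_U (Fin (n + 1)) k i

theorem std_basicOpen (i j : Fin (n + 1)) :
    (CohB1.ProjSpace n k).basicOpen ((std n k).f i j) = (std n k).U i ⊓ (std n k).U j :=
  Groth.Agent.VarietyB.ProjStd.stdData_basicOpen (Fin (n + 1)) k i j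

/-- Weil restriction along `X ×_k S ⟶ S`, `X` projective over `k`, of an affine scheme of finite presentation. -/
theorem exists_weilRes (imm : X ⟶ CohB1.ProjSpace n k) [IsClosedImmersion imm]
    {Z S Y : Scheme.{u}} {a : Z ⟶ X} {f : Z ⟶ S} {σ : S ⟶ Spec (CommRingCat.of k)}
    (H : IsPullback a f (imm ≫ CohB1.ProjSpace.toSpec n k) σ) (y : Y ⟶ Z) [IsAffineHom y]
    [LocallyOfFinitePresentation y] :
    ∃ (R : Over S) (q : Red.bc f R ⟶ Over.mk y), IsAffineHom R.hom ∧ LocallyOfFinitePresentation R.hom ∧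
      WeilRes.IsWeilRes f (Over.mk y) R q := by
  have h1 : IsProper (CohB1.ProjSpace.toSpec n k) := Groth.Agent.Ega3B.ProjProper.isProper_toSpec n k
  have h2 : IsProper (imm ≫ CohB1.ProjSpace.toSpec n k) := inferInstance
  exact WeilGlobal.exists_weilRes (pull (std n k) imm) (pull_isAffineOpen _ imm fun i => std_isAffineOpen i)
    (pull_basicOpen _ imm fun i j => std_basicOpen i j) H y

/-- Unfolding the definition of a Weil restriction. -/
theorem exists_of_isWeilRes {Z S Y : Scheme.{u}} {f : Z ⟶ S} {y : Y ⟶ Z} {R : Over S} {q : Red.bc f R ⟶ Over.mk y}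
    (h : WeilRes.IsWeilRes f (Over.mk y) R q) {T : Scheme.{u}} (t : T ⟶ S) (g : pullback f t ⟶ Y)
    (hg : g ≫ y = pullback.fst f t) :
    ∃! τ : T ⟶ R.left, ∃ e : τ ≫ R.hom = t, bc f τ e ≫ toG f y q = g := by
  obtain ⟨τ, hτ⟩ := (h (Over.mk t)).2 (ofG f y (T := Over.mk t) g hg)
  have h1 := congrArg (toG f y) hτ
  rw [toG_restr, toG_ofG] at h1
  refine ⟨τ.left, ⟨Over.w τ, h1⟩, ?_⟩
  rintro τ' ⟨e, h'⟩
  have h2 : (Over.homMk τ' e : Over.mk t ⟶ R) = τ := by
    apply (h (Over.mk t)).1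
    apply toG_injective f y
    rw [toG_restr, toG_restr]
    exact h'.trans h1.symm
  rw [← h2]
  rfl

end K37.WeilProj
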